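import Cfsg.Agent.Lib.Involutions.ExtraspecialTransfer
import Cfsg.Agent.Lib.Involutions.ZStar.Main
import Cfsg.Agent.Lib.Involutions.Isolated
import Cfsg.Agent.Lib.Transfer.NormalPComplement

/-!
Classes of involutions in a group without quotient of order two whose Sylow two-subgroup has the
fusion invariants of a Sylow two-subgroup of `G₂(q)`, `q` odd.
-/

set_option autoImplicit false
set_option linter.unusedSectionVars false
set_option linter.style.haveILetI false

namespace CfsgLib.Involutions.G2Fusion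

/-- The number of elements centralizing `v`. -/
noncomputable def cnum {S : Type*} [Group S] (v : S) : ℕ := Nat.card {s : S // Commute s v}

/-- An involution. -/
def Inv2 {S : Type*} [Group S] (v : S) : Prop := v * v = 1 ∧ v ≠ 1

theorem inv2_iff {S : Type*} [Group S] {v : S} : Inv2 v ↔ orderOf v = 2 := by
  rw [orderOf_eq_iff two_pos]
  constructor
  · rintro ⟨h, h1⟩
    refine ⟨by rw [pow_two, h], fun m hm hm0 => ?_⟩
    interval_cases m
    rwa [pow_one]
  · rintro ⟨h, h1⟩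
    exact ⟨by rw [← pow_two, h], by simpa using h1 1 one_lt_two one_pos⟩

/-- The invariants used in the fusion argument. -/
structure Facts (S : Type*) [Group S] where
  z : S
  u : S
  χN : S →* ℤˣ
  hz : Inv2 z
  hu : Inv2 u
  huz : u ≠ z
  z_central : ∀ s, Commute z s
  χN_z : χN z = 1
  χN_u : χN u = 1
  u_conj : ∃ s, s * u * s⁻¹ = z * u
  sq_mem : ∀ s, Inv2 (s * s) → s * s = z ∨ s * s = u ∨ s * s = z * u
  in_root : ∀ v, Inv2 v → χN v = 1 → v ≠ z → v ≠ u → v ≠ z * u → ∃ w, Commute w v ∧ w * w = z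
  in_large : ∀ v, Inv2 v → χN v = 1 → v ≠ z → v ≠ u → v ≠ z * u → 16 ≤ cnum v
  out_comm : ∀ v, Inv2 v → χN v ≠ 1 → Commute u v
  out_small : ∀ v, Inv2 v → χN v ≠ 1 → cnum v ≤ 8
  out_conj : ∀ v v', Inv2 v → Inv2 v' → χN v ≠ 1 → χN v' ≠ 1 → ∃ s, s * v * s⁻¹ = v'
  dich : (∃ χA χB : S →* ℤˣ,
      (∀ v, Inv2 v → χN v = 1 → v ≠ z → v ≠ u → v ≠ z * u → χA v = 1 → cnum v ≤ 16) ∧
      (∀ v, Inv2 v → χN v = 1 → v ≠ z → v ≠ u → v ≠ z * u → χB v = 1 → 32 ≤ cnum v)) ∨
    (Nat.card S = 64 ∧ ∃ χ : S →* ℤˣ, ∀ v v',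
      Inv2 v → χN v = 1 → v ≠ z → v ≠ u → v ≠ z * u → χ v = 1 →
      Inv2 v' → χN v' = 1 → v' ≠ z → v' ≠ u → v' ≠ z * u → χ v' = 1 → ∃ s, s * v * s⁻¹ = v')

namespace Facts

variable {S S' : Type*} [Group S] [Group S']

theorem inv2_map (e : S ≃* S') {v : S} : Inv2 (e v) ↔ Inv2 v := by
  rw [inv2_iff, inv2_iff, MulEquiv.orderOf_eq]

theorem cnum_map (e : S ≃* S') (v : S) : cnum (e v) = cnum v :=
  (Nat.card_congr (Equiv.subtypeEquiv e.toEquiv fun s => by
    show Commute s v ↔ Commute (e s) (e v)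
    exact ⟨fun h => h.map e, fun h => by simpa using h.map e.symm⟩)).symm

/-- Transport along an isomorphism. -/
noncomputable def map (D : Facts S) (e : S ≃* S') : Facts S' where
  z := e D.z
  u := e D.u
  χN := D.χN.comp e.symm.toMonoidHom
  hz := (inv2_map e).2 D.hz
  hu := (inv2_map e).2 D.hu
  huz := fun h => D.huz (e.injective h)
  z_central s := by
    obtain ⟨r, rfl⟩ := e.surjective s
    exact (D.z_central r).map e
  χN_z := by simpa using D.χN_z
  χN_u := by simpa using D.χN_u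
  u_conj := by
    obtain ⟨s, hs⟩ := D.u_conj
    exact ⟨e s, by rw [← map_inv, ← map_mul, ← map_mul, hs, map_mul]⟩
  sq_mem s := by
    obtain ⟨r, rfl⟩ := e.surjective s
    rw [← map_mul, inv2_map, ← map_mul, e.injective.eq_iff, e.injective.eq_iff,
      e.injective.eq_iff]
    exact D.sq_mem r
  in_root v := by
    obtain ⟨r, rfl⟩ := e.surjective v
    simp only [inv2_map, MonoidHom.comp_apply, MulEquiv.coe_toMonoidHom,
      MulEquiv.symm_apply_apply, ← map_mul, ne_eq, e.injective.eq_iff]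
    intro a b c d f
    obtain ⟨w, hw1, hw2⟩ := D.in_root r a b c d f
    exact ⟨e w, hw1.map e, by rw [← map_mul, hw2]⟩
  in_large v := by
    obtain ⟨r, rfl⟩ := e.surjective v
    simp only [inv2_map, MonoidHom.comp_apply, MulEquiv.coe_toMonoidHom,
      MulEquiv.symm_apply_apply, ← map_mul, ne_eq, e.injective.eq_iff, cnum_map]
    exact D.in_large r
  out_comm v := by
    obtain ⟨r, rfl⟩ := e.surjective v
    simp only [inv2_map, MonoidHom.comp_apply, MulEquiv.coe_toMonoidHom,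
      MulEquiv.symm_apply_apply]
    exact fun a b => (D.out_comm r a b).map e
  out_small v := by
    obtain ⟨r, rfl⟩ := e.surjective v
    simp only [inv2_map, MonoidHom.comp_apply, MulEquiv.coe_toMonoidHom,
      MulEquiv.symm_apply_apply, cnum_map]
    exact D.out_small r
  out_conj v v' := by
    obtain ⟨r, rfl⟩ := e.surjective v
    obtain ⟨r', rfl⟩ := e.surjective v'
    simp only [inv2_map, MonoidHom.comp_apply, MulEquiv.coe_toMonoidHom,
      MulEquiv.symm_apply_apply]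
    intro a b c d
    obtain ⟨s, hs⟩ := D.out_conj r r' a b c d
    exact ⟨e s, by rw [← map_inv, ← map_mul, ← map_mul, hs]⟩
  dich := by
    rcases D.dich with ⟨χA, χB, hA, hB⟩ | ⟨hc, χ, hχ⟩
    · refine Or.inl ⟨χA.comp e.symm.toMonoidHom, χB.comp e.symm.toMonoidHom, ?_, ?_⟩
      · intro v
        obtain ⟨r, rfl⟩ := e.surjective v
        simp only [inv2_map, MonoidHom.comp_apply, MulEquiv.coe_toMonoidHom,
          MulEquiv.symm_apply_apply, ← map_mul, ne_eq, e.injective.eq_iff, cnum_map]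
        exact hA r
      · intro v
        obtain ⟨r, rfl⟩ := e.surjective v
        simp only [inv2_map, MonoidHom.comp_apply, MulEquiv.coe_toMonoidHom,
          MulEquiv.symm_apply_apply, ← map_mul, ne_eq, e.injective.eq_iff, cnum_map]
        exact hB r
    · refine Or.inr ⟨by rw [← Nat.card_congr e.toEquiv, hc], χ.comp e.symm.toMonoidHom, ?_⟩
      intro v v'
      obtain ⟨r, rfl⟩ := e.surjective v
      obtain ⟨r', rfl⟩ := e.surjective v'
      simp only [inv2_map, MonoidHom.comp_apply, MulEquiv.coe_toMonoidHom,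
        MulEquiv.symm_apply_apply, ← map_mul, ne_eq, e.injective.eq_iff]
      intro a b c d f g a' b' c' d' f' g'
      obtain ⟨s, hs⟩ := hχ r r' a b c d f g a' b' c' d' f' g'
      exact ⟨e s, by rw [← map_inv, ← map_mul, ← map_mul, hs]⟩

end Facts

section fusion

variable {G : Type*} [Group G] [Finite G] (T : Sylow 2 G) (D : Facts ↥(T : Subgroup G))

set_option quotPrecheck false in
local notation "zG" => ((D.z : ↥(T : Subgroup G)) : G)

theorem inv2_coe {v : ↥(T : Subgroup G)} : Inv2 (v : G) ↔ Inv2 v := by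
  rw [inv2_iff, inv2_iff, Subgroup.orderOf_coe]

theorem inv2_conj {x : G} (h : Inv2 x) (g : G) : Inv2 (g * x * g⁻¹) :=
  ⟨by rw [show g * x * g⁻¹ * (g * x * g⁻¹) = g * (x * x) * g⁻¹ by group, h.1]; group,
    fun e => h.2 (conj_eq_one_iff.1 e)⟩

omit [Finite G] in
theorem isConj_coe {v v' s : ↥(T : Subgroup G)} (h : s * v * s⁻¹ = v') :
    IsConj (v : G) (v' : G) :=
  isConj_iff.2 ⟨s, by rw [← h]; rfl⟩

/-- A conjugate of the central involution can be moved to it together with its centralizer. -/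
theorem exists_conj_le {x : ↥(T : Subgroup G)} (h : IsConj (x : G) zG) :
    ∃ g : G, g * x * g⁻¹ = zG ∧
      ∀ c : ↥(T : Subgroup G), Commute c x → g * c * g⁻¹ ∈ (T : Subgroup G) := by
  haveI : Fact (Nat.Prime 2) := ⟨Nat.prime_two⟩
  obtain ⟨g0, hg0⟩ := isConj_iff.1 h
  set C := Subgroup.centralizer ({zG} : Set G)
  have hTC : (T : Subgroup G) ≤ C := fun s hs => Subgroup.mem_centralizer_singleton_iff.2
    (congrArg Subtype.val (D.z_central ⟨s, hs⟩).eq).symm
  set R := (((Subgroup.centralizer ({x} : Set ↥(T : Subgroup G))).map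
    (T : Subgroup G).subtype).map (MulAut.conj g0).toMonoidHom) with hR
  have hRp : IsPGroup 2 R := ((T.2.to_le (Subgroup.map_subtype_le _)).map _)
  have hRC : R ≤ C := by
    rintro _ ⟨_, ⟨c, hc, rfl⟩, rfl⟩
    rw [SetLike.mem_coe, Subgroup.mem_centralizer_singleton_iff] at hc
    rw [Subgroup.mem_centralizer_singleton_iff, ← hg0]
    have e : (c : G) * x = x * c := congrArg Subtype.val hc
    show g0 * (c : G) * g0⁻¹ * (g0 * x * g0⁻¹) = g0 * x * g0⁻¹ * (g0 * (c : G) * g0⁻¹)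
    calc g0 * (c : G) * g0⁻¹ * (g0 * x * g0⁻¹) = g0 * ((c : G) * x) * g0⁻¹ := by group
      _ = _ := by rw [e]; group
  have hRp' : IsPGroup 2 (R.subgroupOf C) :=
    hRp.of_equiv (Subgroup.subgroupOfEquivOfLe hRC).symm
  obtain ⟨P', hP'⟩ := hRp'.exists_le_sylow
  obtain ⟨h', hh⟩ := MulAction.exists_smul_eq C P' (T.subtype hTC)
  refine ⟨(h' : G) * g0, ?_, fun c hc => ?_⟩
  · rw [show (h' : G) * g0 * x * ((h' : G) * g0)⁻¹ = h' * (g0 * x * g0⁻¹) * (h' : G)⁻¹ by group,
      hg0, (Subgroup.mem_centralizer_singleton_iff.1 h'.2), mul_inv_cancel_right]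
  · have hm : (g0 * c * g0⁻¹) ∈ R := ⟨c, ⟨c, Subgroup.mem_centralizer_singleton_iff.2 hc, rfl⟩, rfl⟩
    have h1 : (⟨g0 * c * g0⁻¹, hRC hm⟩ : C) ∈ P' := hP' hm
    have h2 : h' * (⟨g0 * c * g0⁻¹, hRC hm⟩ : C) * h'⁻¹ ∈ T.subtype hTC := by
      rw [← hh]
      rw [mem_smul_sylow_iff']
      simpa [mul_assoc] using h1
    rw [show (h' : G) * g0 * c * ((h' : G) * g0)⁻¹ = h' * (g0 * c * g0⁻¹) * (h' : G)⁻¹ by group]
    exact h2

variable [IsSimpleGroup G]

include D in
theorem not_commutative : ¬ ∀ a b : G, a * b = b * a := fun h => by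
  obtain ⟨s, hs⟩ := D.u_conj
  have e := congrArg Subtype.val hs
  rw [Subgroup.coe_mul, Subgroup.coe_mul, Subgroup.coe_inv, h (s : G), mul_inv_cancel_right,
    Subgroup.coe_mul, eq_comm, mul_eq_right] at e
  exact D.hz.2 (Subtype.ext e)

include D in
theorem pResidual_top : Cfsg.pResidual 2 G = ⊤ := by
  haveI : Fact (Nat.Prime 2) := ⟨Nat.prime_two⟩
  haveI : (Cfsg.pResidual 2 G).Normal := CfsgLib.Transfer.pResidual_normal
  refine (IsSimpleGroup.eq_bot_or_eq_top_of_normal _ inferInstance).resolve_left fun h => ?_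
  have hp : IsPGroup 2 (G ⧸ Cfsg.pResidual 2 G) := CfsgLib.Transfer.isPGroup_quotient_pResidual
  have hG : IsPGroup 2 G := by
    refine hp.of_injective (QuotientGroup.mk' _) ?_
    rw [← MonoidHom.ker_eq_bot_iff, QuotientGroup.ker_mk', h]
  haveI : Nontrivial G := inferInstance
  have hne := hG.center_nontrivial
  rcases IsSimpleGroup.eq_bot_or_eq_top_of_normal (Subgroup.center G) inferInstance with hb | ht
  · exact (Subgroup.nontrivial_iff_ne_bot _).1 hne hb
  · exact not_commutative T D fun a b =>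
      ((Subgroup.mem_center_iff.1 (ht ▸ Subgroup.mem_top a)) b).symm

/-- The central involution is fused. -/
theorem exists_fused_z : ∃ x : ↥(T : Subgroup G), IsConj zG (x : G) ∧ x ≠ D.z := by
  by_contra hcon
  push Not at hcon
  have hz2 : orderOf zG = 2 := inv2_iff.1 ((inv2_coe T).2 D.hz)
  have hiso : Cfsg.IsIsolatedInvolution zG := isolated_of_sylow T hz2 fun g hg => by
    by_contra hne
    exact hne (congrArg Subtype.val (hcon ⟨_, hg⟩ (isConj_iff.2 ⟨g, rfl⟩)))
  have hc := ZStar.centralModCore hiso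
  haveI : (Cfsg.oddCore G).Normal := Cfsg.pPrimeCore_normal 2 G
  rcases IsSimpleGroup.eq_bot_or_eq_top_of_normal (Cfsg.oddCore G) inferInstance with hb | ht
  · have hm : zG ∈ Subgroup.center G :=
      Subgroup.mem_center_iff.2 fun g => (ZStar.commute_of_centralModCore hb hc g).eq.symm
    rcases IsSimpleGroup.eq_bot_or_eq_top_of_normal (Subgroup.center G) inferInstance with
      hb' | ht'
    · rw [hb', Subgroup.mem_bot] at hm
      exact ((inv2_coe T).2 D.hz).2 hm
    · exact not_commutative T D fun a b =>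
        ((Subgroup.mem_center_iff.1 (ht' ▸ Subgroup.mem_top a)) b).symm
  · have hodd := CfsgLib.Base.odd_card_oddCore G
    rw [ht, Subgroup.card_top, ← Nat.not_even_iff_odd, even_iff_two_dvd] at hodd
    exact hodd (hz2 ▸ orderOf_dvd_natCard zG)

omit [IsSimpleGroup G] [Finite G] in
theorem isConj_u_zu : IsConj (D.u : G) ((D.z * D.u : ↥(T : Subgroup G)) : G) := by
  obtain ⟨s, hs⟩ := D.u_conj
  exact isConj_coe T hs

/-- The central involution is conjugate to the other squares. -/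
theorem isConj_z_u : IsConj zG (D.u : G) := by
  have hU : ∀ x : ↥(T : Subgroup G), IsConj zG (x : G) → x ≠ D.z → x = D.u ∨ x = D.z * D.u →
      IsConj zG (D.u : G) := by
    rintro x hx - (rfl | rfl)
    · exact hx
    · exact hx.trans (isConj_u_zu T D).symm
  have inv_of : ∀ x : ↥(T : Subgroup G), IsConj zG (x : G) → Inv2 x := fun x hx => by
    obtain ⟨g, hg⟩ := isConj_iff.1 hx
    rw [← inv2_coe, ← hg]
    exact inv2_conj ((inv2_coe T).2 D.hz) g
  have hIn : ∀ x : ↥(T : Subgroup G), IsConj zG (x : G) → x ≠ D.z → D.χN x = 1 →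
      IsConj zG (D.u : G) := by
    intro x hx hxz hxN
    by_cases hxu : x = D.u ∨ x = D.z * D.u
    · exact hU x hx hxz hxu
    push Not at hxu
    obtain ⟨w, hwx, hww⟩ := D.in_root x (inv_of x hx) hxN hxz hxu.1 hxu.2
    obtain ⟨g, hg, hgS⟩ := exists_conj_le T D hx.symm
    set w' : ↥(T : Subgroup G) := ⟨_, hgS w hwx⟩ with hw'
    have e : ((w' * w' : ↥(T : Subgroup G)) : G) = g * zG * g⁻¹ := by
      rw [Subgroup.coe_mul, hw', ← hww, Subgroup.coe_mul]
      group
    have hconj : IsConj zG ((w' * w' : ↥(T : Subgroup G)) : G) := by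
      rw [e]; exact isConj_iff.2 ⟨g, rfl⟩
    have hne : w' * w' ≠ D.z := fun h => by
      rw [h] at e
      exact hxz (Subtype.ext (mul_left_cancel (mul_right_cancel (hg.trans e))))
    rcases D.sq_mem w' (inv_of _ hconj) with h | h | h
    · exact absurd h hne
    · exact hU _ hconj hne (Or.inl h)
    · exact hU _ hconj hne (Or.inr h)
  obtain ⟨x, hx, hxz⟩ := exists_fused_z T D
  by_cases hxN : D.χN x = 1
  · exact hIn x hx hxz hxN
  have hxi := inv_of x hx
  obtain ⟨g, hg, hgS⟩ := exists_conj_le T D hx.symm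
  set z' : ↥(T : Subgroup G) := ⟨_, hgS D.z (D.z_central x)⟩ with hz'
  have hz'c : IsConj zG (z' : G) := isConj_iff.2 ⟨g, rfl⟩
  have hz'ne : z' ≠ D.z := fun h => by
    have e : g * zG * g⁻¹ = zG := congrArg Subtype.val h
    exact hxz (Subtype.ext (mul_left_cancel (mul_right_cancel (hg.trans e.symm))))
  by_cases hz'N : D.χN z' = 1
  · exact hIn z' hz'c hz'ne hz'N
  have hux : Commute D.u x := D.out_comm x hxi hxN
  have hzux : Commute (D.z * D.u) x := (D.z_central x).mul_left hux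
  set u' : ↥(T : Subgroup G) := ⟨_, hgS D.u hux⟩ with hu'
  set v' : ↥(T : Subgroup G) := ⟨_, hgS (D.z * D.u) hzux⟩ with hv'
  have hprod : z' = v' * u' := by
    refine Subtype.ext ?_
    rw [Subgroup.coe_mul, hz', hu', hv']
    dsimp only
    have huu : (D.u : G) * D.u = 1 := congrArg Subtype.val D.hu.1
    calc g * zG * g⁻¹ = g * (zG * ((D.u : G) * D.u)) * g⁻¹ := by rw [huu, mul_one]
      _ = _ := by rw [Subgroup.coe_mul]; group
  have hout : D.χN u' ≠ 1 ∨ D.χN v' ≠ 1 := by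
    by_contra h
    push Not at h
    rw [hprod, map_mul, h.1, h.2, one_mul] at hz'N
    exact hz'N rfl
  rcases hout with h | h
  · have hi : Inv2 u' := by
      rw [← inv2_coe]; exact inv2_conj ((inv2_coe T).2 D.hu) g
    obtain ⟨s, hs⟩ := D.out_conj x u' hxi hi hxN h
    exact (hx.trans (isConj_coe T hs)).trans (isConj_iff.2 ⟨g, rfl⟩ : IsConj (D.u : G) (u' : G)).symm
  · have hi0 : Inv2 (D.z * D.u) := by
      refine ⟨?_, fun h => D.huz ?_⟩
      · rw [(D.z_central D.u).symm.mul_mul_mul_comm, D.hz.1, D.hu.1, one_mul]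
      · rw [eq_inv_of_mul_eq_one_right h, inv_eq_of_mul_eq_one_right D.hz.1]
    have hi : Inv2 v' := by
      rw [← inv2_coe]; exact inv2_conj ((inv2_coe T).2 hi0) g
    obtain ⟨s, hs⟩ := D.out_conj x v' hxi hi hxN h
    exact ((hx.trans (isConj_coe T hs)).trans
      (isConj_iff.2 ⟨g, rfl⟩ : IsConj ((D.z * D.u : ↥(T : Subgroup G)) : G) (v' : G)).symm).trans
      (isConj_u_zu T D).symm

include D in
/-- Every class not containing the central involution has an extremal member in the kernel. -/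
theorem exists_in_ker {y : G} (hy : Inv2 y) :
    ∃ M : ℕ, (∀ v : ↥(T : Subgroup G), IsConj y (v : G) → cnum v ≤ M) ∧
      ∀ χ : ↥(T : Subgroup G) →* ℤˣ, ∃ v : ↥(T : Subgroup G),
        IsConj y (v : G) ∧ χ v = 1 ∧ M ≤ cnum v := by
  haveI : Fact (Nat.Prime 2) := ⟨Nat.prime_two⟩
  obtain ⟨g, hg⟩ := exists_conj_mem_sylow_one T (inv2_iff.1 hy)
  haveI : Nonempty {v : ↥(T : Subgroup G) // IsConj y (v : G)} :=
    ⟨⟨⟨_, hg⟩, isConj_iff.2 ⟨g, rfl⟩⟩⟩
  obtain ⟨⟨x, hx⟩, hmax⟩ := Finite.exists_max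
    (fun v : {v : ↥(T : Subgroup G) // IsConj y (v : G)} => cnum v.1)
  refine ⟨cnum x, fun v hv => hmax ⟨v, hv⟩, fun χ => ?_⟩
  have hx2 : orderOf (x : G) = 2 := by
    obtain ⟨a, ha⟩ := isConj_iff.1 hx
    rw [← ha]
    exact inv2_iff.1 (inv2_conj hy a)
  set R := (Subgroup.centralizer ({x} : Set ↥(T : Subgroup G))).map (T : Subgroup G).subtype
  have hR : IsPGroup 2 R := T.2.to_le (Subgroup.map_subtype_le _)
  have hRx : R ≤ Subgroup.centralizer ({(x : G)} : Set G) := by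
    rintro _ ⟨c, hc, rfl⟩
    rw [SetLike.mem_coe, Subgroup.mem_centralizer_singleton_iff] at hc
    exact Subgroup.mem_centralizer_singleton_iff.2 (congrArg Subtype.val hc)
  obtain ⟨a, ha, hχ, hRa⟩ :=
    ExtraTransfer.exists_extremal_ker (pResidual_top T D) T χ hx2 R hR hRx
  refine ⟨⟨_, ha⟩, hx.trans (isConj_iff.2 ⟨a⁻¹, by rw [inv_inv]⟩), hχ, ?_⟩
  refine Nat.card_le_card_of_injective
    (fun c => ⟨⟨a⁻¹ * (c.1 : G) * a, hRa _ ⟨c.1, Subgroup.mem_centralizer_singleton_iff.2 c.2,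
      rfl⟩⟩, ?_⟩) ?_
  · refine Subtype.ext ?_
    show a⁻¹ * (c.1 : G) * a * (a⁻¹ * x * a) = a⁻¹ * x * a * (a⁻¹ * (c.1 : G) * a)
    have e : (c.1 : G) * x = x * c.1 := congrArg Subtype.val c.2.eq
    calc a⁻¹ * (c.1 : G) * a * (a⁻¹ * x * a) = a⁻¹ * ((c.1 : G) * x) * a := by group
      _ = _ := by rw [e]; group
  · intro c d h
    have h' : a⁻¹ * (c.1 : G) * a = a⁻¹ * (d.1 : G) * a :=
      congrArg (fun v : {s : ↥(T : Subgroup G) // _} => ((v.1 : ↥(T : Subgroup G)) : G)) h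
    exact Subtype.ext (Subtype.ext (mul_left_cancel (mul_right_cancel h')))

include D in
/-- The classes of involutions. -/
theorem classes : (∀ x y : G, orderOf x = 2 → orderOf y = 2 → IsConj x y) ∨
    (Nat.card ↥(T : Subgroup G) = 64 ∧ ∃ x y : G, orderOf x = 2 ∧ orderOf y = 2 ∧ ¬ IsConj x y ∧
      ∀ w : G, orderOf w = 2 → IsConj w x ∨ IsConj w y) := by
  have hzu := isConj_z_u T D
  have facts : ∀ (y : G), Inv2 y → ¬ IsConj zG y → ∀ v : ↥(T : Subgroup G), IsConj y (v : G) →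
      Inv2 v ∧ v ≠ D.z ∧ v ≠ D.u ∧ v ≠ D.z * D.u := by
    intro y hy hyz v hv
    refine ⟨?_, ?_, ?_, ?_⟩
    · obtain ⟨a, ha⟩ := isConj_iff.1 hv
      rw [← inv2_coe, ← ha]
      exact inv2_conj hy a
    · rintro rfl; exact hyz hv.symm
    · rintro rfl; exact hyz (hzu.trans hv.symm)
    · rintro rfl; exact hyz ((hzu.trans (isConj_u_zu T D)).trans hv.symm)
  have large : ∀ y : G, Inv2 y → ¬ IsConj zG y → ∃ M, 16 ≤ M ∧
      ∀ χ : ↥(T : Subgroup G) →* ℤˣ, ∃ v : ↥(T : Subgroup G), IsConj y (v : G) ∧ χ v = 1 ∧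
        M ≤ cnum v ∧ cnum v ≤ M ∧ D.χN v = 1 := by
    intro y hy hyz
    obtain ⟨M, hM, hker⟩ := exists_in_ker T D hy
    obtain ⟨v0, h0, hN0, hM0⟩ := hker D.χN
    obtain ⟨a, b, c, d⟩ := facts y hy hyz v0 h0
    have h16 : 16 ≤ M := (D.in_large v0 a hN0 b c d).trans (hM v0 h0)
    refine ⟨M, h16, fun χ => ?_⟩
    obtain ⟨v, hv, hχ, hMv⟩ := hker χ
    refine ⟨v, hv, hχ, hMv, hM v hv, ?_⟩
    by_contra hN
    have := D.out_small v (facts y hy hyz v hv).1 hN
    omega
  rcases D.dich with ⟨χA, χB, hA, hB⟩ | ⟨hcard, χ, hχ⟩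
  · left
    have hall : ∀ y : G, Inv2 y → IsConj zG y := by
      intro y hy
      by_contra hyz
      obtain ⟨M, -, hker⟩ := large y hy hyz
      obtain ⟨v, hv, hχv, h1, -, hN⟩ := hker χA
      obtain ⟨a, b, c, d⟩ := facts y hy hyz v hv
      have := hA v a hN b c d hχv
      obtain ⟨w, hw, hχw, -, h2, hN'⟩ := hker χB
      obtain ⟨a', b', c', d'⟩ := facts y hy hyz w hw
      have := hB w a' hN' b' c' d' hχw
      omega
    exact fun x y hx hy => (hall x (inv2_iff.2 hx)).symm.trans (hall y (inv2_iff.2 hy))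
  · by_cases hall : ∀ y : G, Inv2 y → IsConj zG y
    · exact Or.inl fun x y hx hy =>
        (hall x (inv2_iff.2 hx)).symm.trans (hall y (inv2_iff.2 hy))
    push Not at hall
    obtain ⟨y, hy, hyz⟩ := hall
    refine Or.inr ⟨hcard, zG, y, inv2_iff.1 ((inv2_coe T).2 D.hz), inv2_iff.1 hy, hyz, ?_⟩
    intro w hw
    by_cases hwz : IsConj zG w
    · exact Or.inl hwz.symm
    obtain ⟨M, -, hker⟩ := large y hy hyz
    obtain ⟨v, hv, hχv, -, -, hN⟩ := hker χ
    obtain ⟨a, b, c, d⟩ := facts y hy hyz v hv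
    obtain ⟨M', -, hker'⟩ := large w (inv2_iff.2 hw) hwz
    obtain ⟨v', hv', hχv', -, -, hN'⟩ := hker' χ
    obtain ⟨a', b', c', d'⟩ := facts w (inv2_iff.2 hw) hwz v' hv'
    obtain ⟨s, hs⟩ := hχ v' v a' hN' b' c' d' hχv' a hN b c d hχv
    exact Or.inr ((hv'.trans (isConj_coe T hs)).trans hv.symm)

end fusion

end CfsgLib.Involutions.G2Fusion
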