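import Mathlib

/-!
A generalised quaternion group with an outer involutory automorphism.
-/

set_option autoImplicit false
set_option linter.unusedSectionVars false

namespace CfsgLib.Involutions.G2Fusion

open Subgroup

/-- A generalised quaternion group with its cyclic subgroup and an outer involutory automorphism. -/
structure QData (Q : Type*) [Group Q] where
  x : Q
  ε : Q
  k : ℕ
  σ : MulAut Q
  hk : 2 ≤ k
  hx : orderOf x = 2 ^ k
  hidx : (zpowers x).index = 2
  hout : ∀ a, a ∉ zpowers x → a * a = ε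
  hε1 : ε ≠ 1
  hεε : ε * ε = 1
  hcen : ∀ a, Commute ε a
  hinv : ∀ a, σ (σ a) = a
  hσx : σ x = x ∨ σ x = x⁻¹
  hσa : ∀ a, a ∉ zpowers x → ∀ g, g * σ a * g⁻¹ ≠ a

namespace QData

variable {Q : Type*} [Group Q] (D : QData Q)

local notation "C" => zpowers D.x

theorem out_mul {a b : Q} (ha : a ∉ C) (hb : b ∉ C) : a * b ∈ C :=
  (Subgroup.mul_mem_iff_of_index_two D.hidx).2 (iff_of_false ha hb)

theorem exists_out : ∃ y, y ∉ C := by
  by_contra h
  push Not at h
  have := D.hidx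
  rw [(Subgroup.eq_top_iff' _).2 h, Subgroup.index_top] at this
  omega

theorem sq_mem (a : Q) : a * a ∈ C :=
  (Subgroup.mul_mem_iff_of_index_two D.hidx).2 Iff.rfl

theorem eps_mem : D.ε ∈ C := by
  obtain ⟨y, hy⟩ := D.exists_out
  exact D.hout y hy ▸ D.sq_mem y

theorem comm_C {g h : Q} (hg : g ∈ C) (hh : h ∈ C) : Commute g h := by
  obtain ⟨m, rfl⟩ := mem_zpowers_iff.1 hg
  obtain ⟨n, rfl⟩ := mem_zpowers_iff.1 hh
  exact Commute.zpow_zpow (Commute.refl _) m n

theorem out_conj {a g : Q} (ha : a ∉ C) (hg : g ∈ C) : a * g * a⁻¹ = g⁻¹ := by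
  have hag : a * g ∉ C := fun h => ha ((Subgroup.mul_mem_cancel_right _ hg).1 h)
  have e : a * g * (a * g) = a * a := by rw [D.hout _ hag, D.hout _ ha]
  have e' : g * (a * g) = a := by rwa [mul_assoc, mul_right_inj] at e
  calc a * g * a⁻¹ = g⁻¹ * (g * (a * g)) * a⁻¹ := by group
    _ = g⁻¹ := by rw [e']; group

theorem sq_one_cases {g : Q} (h : g * g = 1) : g = 1 ∨ g = D.ε := by
  by_cases hg : g ∈ C
  swap
  · exact absurd ((D.hout g hg).symm.trans h) D.hε1
  have key : ∀ v : Q, v ∈ C → v * v = 1 → v = 1 ∨ v = D.x ^ 2 ^ (D.k - 1) := by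
    intro v hv hvv
    obtain ⟨j, rfl⟩ := mem_zpowers_iff.1 hv
    rw [← zpow_add, ← orderOf_dvd_iff_zpow_eq_one, D.hx] at hvv
    have hpk : (2 : ℤ) ^ D.k = 2 * 2 ^ (D.k - 1) := by
      rw [← pow_succ', Nat.sub_add_cancel (le_trans one_le_two D.hk)]
    push_cast at hvv
    rw [hpk, ← two_mul, mul_dvd_mul_iff_left two_ne_zero] at hvv
    obtain ⟨m, rfl⟩ := hvv
    have he : (D.x ^ 2 ^ (D.k - 1)) * (D.x ^ 2 ^ (D.k - 1)) = 1 := by
      rw [← pow_add, ← two_mul, ← pow_succ', Nat.sub_add_cancel (le_trans one_le_two D.hk),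
        ← D.hx, pow_orderOf_eq_one]
    rw [zpow_mul, show (2 : ℤ) ^ (D.k - 1) = ((2 ^ (D.k - 1) : ℕ) : ℤ) by push_cast; rfl,
      zpow_natCast]
    rcases Int.even_or_odd' m with ⟨r, rfl | rfl⟩
    · left; rw [zpow_mul, zpow_two, he, one_zpow]
    · right; rw [zpow_add, zpow_mul, zpow_two, he, one_zpow, one_mul, zpow_one]
  rcases key g hg h with rfl | e1
  · exact Or.inl rfl
  rcases key D.ε D.eps_mem D.hεε with e2 | e2
  · exact absurd e2 D.hε1
  · exact Or.inr (e1.trans e2.symm)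

/-- The element of order four in the cyclic part. -/
def i : Q := D.x ^ 2 ^ (D.k - 2)

theorem i_mem : D.i ∈ C := Subgroup.npow_mem_zpowers _ _

theorem i_sq : D.i * D.i = D.ε := by
  have h1 : D.i * D.i = D.x ^ 2 ^ (D.k - 1) := by
    rw [i, ← pow_add, ← two_mul, ← pow_succ']
    congr 2
    have := D.hk
    omega
  rcases D.sq_one_cases (g := D.i * D.i) (by
    rw [h1, ← pow_add, ← two_mul, ← pow_succ', Nat.sub_add_cancel (le_trans one_le_two D.hk),
      ← D.hx, pow_orderOf_eq_one]) with h | h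
  · exfalso
    rw [h1, ← orderOf_dvd_iff_pow_eq_one, D.hx, Nat.pow_dvd_pow_iff_le_right one_lt_two] at h
    have := D.hk
    omega
  · exact h

theorem sq_eps_cases {g : Q} (hg : g ∈ C) (h : g * g = D.ε) : g = D.i ∨ g = D.ε * D.i := by
  have hc := D.comm_C hg (inv_mem D.i_mem)
  have e : g * D.i⁻¹ * (g * D.i⁻¹) = 1 := by
    rw [hc.symm.mul_mul_mul_comm, h, ← mul_inv_rev, D.i_sq, mul_inv_cancel]
  rcases D.sq_one_cases e with h' | h'
  · exact Or.inl (mul_inv_eq_one.1 h')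
  · exact Or.inr (by rw [← h', inv_mul_cancel_right])

theorem eps_ne_i : D.i ≠ 1 ∧ D.i ≠ D.ε := by
  constructor
  · intro h
    have := D.i_sq
    rw [h, one_mul] at this
    exact D.hε1 this.symm
  · intro h
    have := D.i_sq
    rw [h, D.hεε] at this
    exact D.hε1 this.symm

/-- Conjugation by `i` outside the cyclic part. -/
theorem i_conj {a : Q} (ha : a ∉ C) : D.i * a * D.i⁻¹ = D.ε * a := by
  have h := D.out_conj ha (inv_mem D.i_mem)
  rw [inv_inv, mul_inv_eq_iff_eq_mul] at h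
  rw [mul_assoc, h, ← mul_assoc, D.i_sq]

theorem sigma_mem {g : Q} (hg : g ∈ C) : D.σ g ∈ C := by
  obtain ⟨j, rfl⟩ := mem_zpowers_iff.1 hg
  rw [map_zpow]
  rcases D.hσx with h | h <;> rw [h]
  · exact Subgroup.zpow_mem_zpowers _ _
  · exact zpow_mem (inv_mem (mem_zpowers _)) _

theorem sigma_not_mem {g : Q} (hg : g ∉ C) : D.σ g ∉ C := fun h => hg (D.hinv g ▸ D.sigma_mem h)

theorem sigma_eps : D.σ D.ε = D.ε := by
  rcases D.sq_one_cases (g := D.σ D.ε) (by rw [← map_mul, D.hεε, map_one]) with h | h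
  · exact absurd (D.σ.injective (h.trans (map_one _).symm)) D.hε1
  · exact h

theorem sigma_pm {a : Q} (ha : a ∉ C) (g : Q) :
    g * D.σ a * g⁻¹ ≠ a ∧ g * D.σ a * g⁻¹ ≠ D.ε * a := by
  refine ⟨D.hσa a ha g, fun h => D.hσa a ha (D.i⁻¹ * g) ?_⟩
  calc D.i⁻¹ * g * D.σ a * (D.i⁻¹ * g)⁻¹ = D.i⁻¹ * (g * D.σ a * g⁻¹) * D.i := by group
    _ = D.i⁻¹ * (D.i * a * D.i⁻¹) * D.i := by rw [h, D.i_conj ha]
    _ = a := by group

theorem mul_sigma_mem (a : Q) : a * D.σ a ∈ C :=
  (Subgroup.mul_mem_iff_of_index_two D.hidx).2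
    ⟨fun h => D.sigma_mem h, fun h => by simpa [D.hinv] using D.sigma_mem h⟩

/-- The twist by `a`. -/
def tau (a g : Q) : Q := a * D.σ g * a⁻¹

theorem tau_mul (a g h : Q) : D.tau a (g * h) = D.tau a g * D.tau a h := by
  rw [tau, tau, tau, map_mul]; group

variable {a : Q} (ha : a * D.σ a = 1 ∨ a * D.σ a = D.ε)
include ha

theorem tau_tau (g : Q) : D.tau a (D.tau a g) = g := by
  have e : D.tau a (D.tau a g) = a * D.σ a * g * (a * D.σ a)⁻¹ := by
    simp only [tau, map_mul, map_inv, D.hinv, mul_inv_rev, mul_assoc]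
  rw [e]
  rcases ha with h | h <;> rw [h]
  · group
  · rw [(D.hcen g).eq, mul_inv_cancel_right]

omit ha in
theorem tau_pm {g : Q} (hg : g ∉ C) : D.tau a g ≠ g ∧ D.tau a g ≠ D.ε * g :=
  D.sigma_pm hg a

omit ha in
theorem tau_not_mem {g : Q} (hg : g ∉ C) : D.tau a g ∉ C := by
  have : (C).Normal := Subgroup.normal_of_index_eq_two D.hidx
  intro h
  refine D.sigma_not_mem hg ?_
  have := ‹(C).Normal›.conj_mem _ h a⁻¹
  rwa [tau, show a⁻¹ * (a * D.σ g * a⁻¹) * a⁻¹⁻¹ = D.σ g by group] at this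

theorem tau_C {g : Q} (hg : g ∈ C) : D.tau a g = g⁻¹ := by
  have hx : D.tau a D.x = D.x ∨ D.tau a D.x = D.x⁻¹ := by
    have hxm := mem_zpowers D.x
    by_cases hm : a ∈ C
    · rcases D.hσx with h | h <;> rw [tau, h]
      · exact Or.inl (by rw [(D.comm_C hm hxm).eq, mul_inv_cancel_right])
      · exact Or.inr (by rw [(D.comm_C hm (inv_mem hxm)).eq, mul_inv_cancel_right])
    · rcases D.hσx with h | h <;> rw [tau, h]
      · exact Or.inr (D.out_conj hm hxm)
      · exact Or.inl ((D.out_conj hm (inv_mem hxm)).trans (inv_inv _))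
  let T : Q →* Q :=
    { toFun := D.tau a
      map_one' := by simp [tau]
      map_mul' := D.tau_mul a }
  have hT : ∀ j : ℤ, D.tau a (D.x ^ j) = D.tau a D.x ^ j := map_zpow T D.x
  rcases hx with hx | hx
  · exfalso
    obtain ⟨y, hy⟩ := D.exists_out
    set c := D.tau a y * y⁻¹ with hc
    have hcm : c ∈ C := D.out_mul (D.tau_not_mem hy) fun h => hy (inv_mem_iff.1 h)
    have hfix : D.tau a c = c := by
      obtain ⟨j, hj⟩ := mem_zpowers_iff.1 hcm
      rw [← hj, hT, hx]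
    have e : c * c = 1 := by
      have h1 : D.tau a y = c * y := by rw [hc, inv_mul_cancel_right]
      have h2 : D.tau a (D.tau a y) = c * (c * y) := by rw [h1, D.tau_mul, hfix, h1]
      rw [D.tau_tau ha, ← mul_assoc, eq_comm, mul_eq_right] at h2
      exact h2
    rcases D.sq_one_cases e with h | h
    · exact (D.tau_pm (a := a) hy).1 (mul_inv_eq_one.1 (hc.symm.trans h))
    · exact (D.tau_pm (a := a) hy).2 (mul_inv_eq_iff_eq_mul.1 (hc.symm.trans h))
  · obtain ⟨j, rfl⟩ := mem_zpowers_iff.1 hg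
    rw [hT, hx, inv_zpow]

theorem tau_i : D.tau a D.i = D.ε * D.i := by
  rw [D.tau_C ha D.i_mem]
  refine inv_eq_of_mul_eq_one_right ?_
  rw [← mul_assoc, ← (D.hcen D.i).eq, mul_assoc, D.i_sq, D.hεε]

/-- The fixed points of the twist up to sign. -/
theorem tau_fix {g : Q} :
    (D.tau a g = g → g = 1 ∨ g = D.ε) ∧ (D.tau a g = D.ε * g → g = D.i ∨ g = D.ε * D.i) := by
  by_cases hg : g ∈ C
  · rw [D.tau_C ha hg]
    constructor
    · intro h
      refine D.sq_one_cases ?_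
      nth_rewrite 1 [← h]
      exact inv_mul_cancel g
    · intro h
      refine D.sq_eps_cases hg ?_
      have h' : D.ε * g * g = 1 := by rw [← h, inv_mul_cancel]
      rw [mul_assoc] at h'
      rw [eq_inv_of_mul_eq_one_right h', inv_eq_of_mul_eq_one_right D.hεε]
  · exact ⟨fun h => absurd h (D.tau_pm hg).1, fun h => absurd h (D.tau_pm hg).2⟩

theorem mem_of_tau {p : Q} (h : p * D.tau a p = 1 ∨ p * D.tau a p = D.ε) : p ∈ C := by
  by_contra hp
  have hpi : p⁻¹ = D.ε * p := by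
    refine inv_eq_of_mul_eq_one_right ?_
    rw [← mul_assoc, ← (D.hcen p).eq, mul_assoc, D.hout p hp, D.hεε]
  rcases h with h | h
  · exact (D.tau_pm hp).2 ((eq_inv_of_mul_eq_one_right h).trans hpi)
  · exact (D.tau_pm hp).1 (mul_left_cancel (h.trans (D.hout p hp).symm))

theorem tau_surj {c : Q} (hc : c ∈ C) : ∃ g, g * (D.tau a g)⁻¹ = c := by
  obtain ⟨j, rfl⟩ := mem_zpowers_iff.1 hc
  rcases Int.even_or_odd' j with ⟨r, rfl | rfl⟩
  · refine ⟨D.x ^ r, ?_⟩
    rw [D.tau_C ha (Subgroup.zpow_mem_zpowers _ _), inv_inv, ← zpow_add, two_mul]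
  obtain ⟨y, hy⟩ := D.exists_out
  have hd : y * (D.tau a y)⁻¹ ∈ C :=
    D.out_mul hy fun h => D.tau_not_mem hy (inv_mem_iff.1 h)
  obtain ⟨m, hm⟩ := mem_zpowers_iff.1 hd
  have gen : ∀ l : ℤ, D.x ^ l * y * (D.tau a (D.x ^ l * y))⁻¹ = D.x ^ (l + m + l) := by
    intro l
    rw [D.tau_mul, D.tau_C ha (Subgroup.zpow_mem_zpowers _ _), mul_inv_rev, inv_inv, zpow_add,
      zpow_add, hm]
    group
  rcases Int.even_or_odd' m with ⟨l, rfl | rfl⟩
  · exfalso
    have h := gen (-l)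
    rw [show -l + 2 * l + -l = 0 by ring, zpow_zero, mul_inv_eq_one] at h
    refine (D.tau_pm (a := a) ?_).1 h.symm
    exact fun h' => hy ((Subgroup.mul_mem_cancel_left _ (Subgroup.zpow_mem_zpowers _ _)).1 h')
  · exact ⟨D.x ^ (r - l) * y, by rw [gen]; congr 1; ring⟩

end QData

namespace QData

variable {Q : Type*} [Group Q] (D : QData Q)

local notation "C" => zpowers D.x

/-- The centralizer outside the cyclic part. -/
theorem centralizer_out {a g : Q} (ha : a ∉ C) (h : Commute g a) :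
    g = 1 ∨ g = D.ε ∨ g = a ∨ g = D.ε * a := by
  have key : ∀ c ∈ C, Commute c a → c = 1 ∨ c = D.ε := fun c hc hca => by
    refine D.sq_one_cases ?_
    have := D.out_conj ha hc
    rw [← hca.eq, mul_inv_cancel_right] at this
    nth_rewrite 1 [this]
    exact inv_mul_cancel c
  by_cases hg : g ∈ C
  · rcases key g hg h with h' | h'
    · exact Or.inl h'
    · exact Or.inr (Or.inl h')
  · rcases key (g * a⁻¹) (D.out_mul hg fun h' => ha (inv_mem_iff.1 h'))
      (h.mul_left (Commute.refl a).inv_left) with h' | h'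
    · exact Or.inr (Or.inr (Or.inl (mul_inv_eq_one.1 h')))
    · exact Or.inr (Or.inr (Or.inr (mul_inv_eq_iff_eq_mul.1 h')))

theorem card_centralizer_out_le {a : Q} (ha : a ∉ C) :
    Nat.card {g : Q // Commute g a} ≤ 4 := by
  classical
  have h : ∀ g : {g : Q // Commute g a}, g.1 ∈ ({1, D.ε, a, D.ε * a} : Finset Q) := fun g => by
    simpa using D.centralizer_out ha g.2
  calc Nat.card {g : Q // Commute g a}
      ≤ Nat.card {g // g ∈ ({1, D.ε, a, D.ε * a} : Finset Q)} :=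
        Nat.card_le_card_of_injective (fun g => ⟨g.1, h g⟩) fun g g' e =>
          Subtype.ext (congrArg (fun v : {g // g ∈ ({1, D.ε, a, D.ε * a} : Finset Q)} => v.1) e)
    _ = ({1, D.ε, a, D.ε * a} : Finset Q).card := by
        rw [Nat.card_eq_fintype_card, Fintype.card_coe]
    _ ≤ 4 := Finset.card_le_four

theorem card_centralizer_in_ge [Finite Q] {a : Q} (ha : a ∈ C) :
    2 ^ D.k ≤ Nat.card {g : Q // Commute g a} := by
  rw [← D.hx, ← Nat.card_zpowers]
  exact Nat.card_le_card_of_injective (fun g : C => ⟨g.1, D.comm_C g.2 ha⟩) fun g g' e =>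
    Subtype.ext (congrArg (fun v : {g : Q // Commute g a} => v.1) e)

include D in
theorem four_le_card_centralizer [Finite Q] (a : Q) :
    4 ≤ Nat.card {g : Q // Commute g a} := by
  by_cases ha : a ∈ C
  · refine le_trans ?_ (D.card_centralizer_in_ge ha)
    calc 4 = 2 ^ 2 := by norm_num
      _ ≤ 2 ^ D.k := Nat.pow_le_pow_right two_pos D.hk
  have h4 : a ^ 4 = 1 := by
    rw [show 4 = 2 * 2 from rfl, pow_mul, pow_two a, D.hout a ha, pow_two, D.hεε]
  have ho : orderOf a = 4 :=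
    orderOf_eq_prime_pow (p := 2) (n := 1)
      (by rw [pow_one, pow_two, D.hout a ha]; exact D.hε1) h4
  rw [← ho, ← Nat.card_zpowers]
  exact Nat.card_le_card_of_injective
    (fun g : zpowers a => ⟨g.1, by
      obtain ⟨n, hn⟩ := g.2
      rw [← hn]
      exact Commute.zpow_left rfl n⟩) fun g g' e =>
    Subtype.ext (congrArg (fun v : {g : Q // Commute g a} => v.1) e)

/-- Every element of order four is inverted by some element. -/
theorem exists_flip {a : Q} (ha : a * a = D.ε) : ∃ g, g * a * g⁻¹ = D.ε * a := by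
  by_cases hm : a ∈ C
  · obtain ⟨y, hy⟩ := D.exists_out
    refine ⟨y, ?_⟩
    rw [D.out_conj hy hm]
    refine inv_eq_of_mul_eq_one_right ?_
    rw [← mul_assoc, ← (D.hcen a).eq, mul_assoc, ha, D.hεε]
  · exact ⟨D.i, D.i_conj hm⟩

end QData

end CfsgLib.Involutions.G2Fusion
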