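import Cfsg.Agent.Lib.Involutions.G2Fusion.Abstract
import Cfsg.Agent.Lib.Involutions.G2Fusion.Quaternion

/-!
The fusion invariants of the extension of a central product of two generalised quaternion groups
by a diagonal outer involution.
-/

set_option autoImplicit false
set_option linter.unusedSectionVars false

namespace CfsgLib.Involutions.G2Fusion

open Subgroup

/-- The central product with its diagonal automorphism. -/
structure CData (S Q : Type*) [Group S] [Group Q] where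
  D : QData Q
  ψ : Q × Q →* S
  t : S
  hε : ψ (D.ε, D.ε) = 1
  hker : ∀ p, ψ p = 1 → p = 1 ∨ p = (D.ε, D.ε)
  ht : t * t = 1
  hconj : ∀ a b, t * ψ (a, b) = ψ (D.σ a, D.σ b) * t
  hsurj : ∀ s, ∃ p, s = ψ p ∨ s = ψ p * t
  hnot : ∀ p, ψ p ≠ t

namespace CData

variable {S Q : Type*} [Group S] [Group Q] (E : CData S Q)

local notation "C" => zpowers E.D.x

theorem psi_mul (a b c d : Q) : E.ψ (a, b) * E.ψ (c, d) = E.ψ (a * c, b * d) :=
  (map_mul E.ψ (a, b) (c, d)).symm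

theorem psi_eps (a b : Q) : E.ψ (E.D.ε * a, E.D.ε * b) = E.ψ (a, b) := by
  rw [← E.psi_mul, E.hε, one_mul]

theorem psi_eq {a b c d : Q} (h : E.ψ (a, b) = E.ψ (c, d)) :
    (a = c ∧ b = d) ∨ (a = E.D.ε * c ∧ b = E.D.ε * d) := by
  have h1 : E.ψ (a * c⁻¹, b * d⁻¹) = 1 := by
    rw [← E.psi_mul, h, E.psi_mul, mul_inv_cancel, mul_inv_cancel]
    exact map_one E.ψ
  rcases E.hker _ h1 with h' | h'
  · rw [Prod.mk_eq_one, mul_inv_eq_one, mul_inv_eq_one] at h'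
    exact Or.inl h'
  · rw [Prod.mk.injEq, mul_inv_eq_iff_eq_mul, mul_inv_eq_iff_eq_mul] at h'
    exact Or.inr h'

theorem psi_ne_psi_t (p q : Q × Q) : E.ψ p ≠ E.ψ q * E.t := fun h =>
  E.hnot (q⁻¹ * p) (by rw [map_mul, map_inv, h, inv_mul_cancel_left])

theorem forms (s : S) : (∃ a b, s = E.ψ (a, b)) ∨ ∃ a b, s = E.ψ (a, b) * E.t := by
  obtain ⟨⟨a, b⟩, h | h⟩ := E.hsurj s
  exacts [Or.inl ⟨a, b, h⟩, Or.inr ⟨a, b, h⟩]

theorem t_mul (a b : Q) (w : S) : E.t * (E.ψ (a, b) * w) = E.ψ (E.D.σ a, E.D.σ b) * (E.t * w) := by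
  rw [← mul_assoc, E.hconj, mul_assoc]

/-- Extending a character of the pairs. -/
noncomputable def lift (g : Q × Q →* ℤˣ) (hg : g (E.D.ε, E.D.ε) = 1)
    (hσ : ∀ a b, g (E.D.σ a, E.D.σ b) = g (a, b)) (e : ℤˣ) : S →* ℤˣ := by
  classical
  let F : S → ℤˣ := fun s => if h : ∃ p, E.ψ p = s then g h.choose else
    if h' : ∃ p, E.ψ p * E.t = s then e * g h'.choose else 1
  have wd : ∀ p q, E.ψ p = E.ψ q → g p = g q := by
    rintro ⟨a, b⟩ ⟨c, d⟩ h
    rcases E.psi_eq h with ⟨rfl, rfl⟩ | ⟨rfl, rfl⟩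
    · rfl
    · rw [show ((E.D.ε * c, E.D.ε * d) : Q × Q) = (E.D.ε, E.D.ε) * (c, d) from rfl, map_mul, hg,
        one_mul]
  have v1 : ∀ p, F (E.ψ p) = g p := fun p => by
    have h : ∃ q, E.ψ q = E.ψ p := ⟨p, rfl⟩
    simp only [F, dif_pos h]
    exact wd _ _ h.choose_spec
  have v2 : ∀ p, F (E.ψ p * E.t) = e * g p := fun p => by
    have h0 : ¬ ∃ q, E.ψ q = E.ψ p * E.t := fun ⟨q, hq⟩ => E.psi_ne_psi_t q p hq
    have h : ∃ q, E.ψ q * E.t = E.ψ p * E.t := ⟨p, rfl⟩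
    simp only [F, dif_neg h0, dif_pos h]
    rw [wd _ _ (mul_right_cancel h.choose_spec)]
  exact
    { toFun := F
      map_one' := by rw [← map_one E.ψ, v1, map_one]
      map_mul' := by
        intro s s'
        obtain ⟨⟨a, b⟩, rfl | rfl⟩ := E.hsurj s <;> obtain ⟨⟨c, d⟩, rfl | rfl⟩ := E.hsurj s'
        · rw [← map_mul, v1, v1, v1, map_mul]
        · rw [← mul_assoc, ← map_mul, v1, v2, v2, map_mul, mul_left_comm]
        · rw [mul_assoc, E.hconj, ← mul_assoc, ← map_mul, v1, v2, v2, map_mul, hσ, mul_assoc]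
        · rw [mul_assoc, E.t_mul, E.ht, mul_one, ← map_mul, v1, v2, v2, map_mul, hσ,
            mul_mul_mul_comm, Int.units_mul_self, one_mul] }

theorem lift_apply (g : Q × Q →* ℤˣ) (hg : g (E.D.ε, E.D.ε) = 1)
    (hσ : ∀ a b, g (E.D.σ a, E.D.σ b) = g (a, b)) (e : ℤˣ) (p : Q × Q) :
    E.lift g hg hσ e (E.ψ p) = g p := by
  classical
  have h : ∃ q, E.ψ q = E.ψ p := ⟨p, rfl⟩
  show (if h : ∃ q, E.ψ q = E.ψ p then g h.choose else _) = g p
  rw [dif_pos h]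
  obtain ⟨a, b⟩ := p
  rcases E.psi_eq (a := h.choose.1) (b := h.choose.2) h.choose_spec with ⟨e1, e2⟩ | ⟨e1, e2⟩
  · exact congrArg g (Prod.ext e1 e2)
  · rw [show h.choose = (E.D.ε, E.D.ε) * (a, b) from Prod.ext e1 e2, map_mul, hg, one_mul]

theorem lift_apply_t (g : Q × Q →* ℤˣ) (hg : g (E.D.ε, E.D.ε) = 1)
    (hσ : ∀ a b, g (E.D.σ a, E.D.σ b) = g (a, b)) (e : ℤˣ) :
    E.lift g hg hσ e E.t = e := by
  classical
  have h0 : ¬ ∃ q, E.ψ q = E.t := fun ⟨q, hq⟩ => E.hnot q hq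
  have h : ∃ q, E.ψ q * E.t = E.t := ⟨1, by rw [map_one, one_mul]⟩
  show (if h : ∃ q, E.ψ q = E.t then g h.choose else
    if h' : ∃ q, E.ψ q * E.t = E.t then e * g h'.choose else 1) = e
  rw [dif_neg h0, dif_pos h]
  rcases E.hker _ (mul_eq_right.1 h.choose_spec) with e1 | e1
  · rw [e1, map_one, mul_one]
  · rw [e1, hg, mul_one]

/-- The character vanishing exactly on the cyclic part. -/
noncomputable def fC : Q →* ℤˣ where
  toFun a := by classical exact if a ∈ C then 1 else -1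
  map_one' := by simp
  map_mul' a b := by
    classical
    by_cases ha : a ∈ C <;> by_cases hb : b ∈ C <;>
      simp [ha, hb, Subgroup.mul_mem_iff_of_index_two E.D.hidx]

theorem fC_eq_one (a : Q) : E.fC a = 1 ↔ a ∈ C := by
  classical
  show (if a ∈ C then (1 : ℤˣ) else -1) = 1 ↔ a ∈ C
  by_cases ha : a ∈ C <;> simp [ha]

theorem fC_sigma (a : Q) : E.fC (E.D.σ a) = E.fC a := by
  classical
  show (if E.D.σ a ∈ C then (1 : ℤˣ) else -1) = if a ∈ C then 1 else -1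
  by_cases ha : a ∈ C
  · rw [if_pos ha, if_pos (E.D.sigma_mem ha)]
  · rw [if_neg ha, if_neg (E.D.sigma_not_mem ha)]

/-- The character with kernel the image of the pairs. -/
noncomputable def χN : S →* ℤˣ := E.lift 1 rfl (fun _ _ => rfl) (-1)

/-- The first coordinate. -/
noncomputable def χ1 : S →* ℤˣ :=
  E.lift (E.fC.comp (MonoidHom.fst Q Q)) ((E.fC_eq_one _).2 E.D.eps_mem)
    (fun a _ => E.fC_sigma a) 1

/-- Both coordinates. -/
noncomputable def χ12 : S →* ℤˣ :=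
  E.lift (E.fC.comp (MonoidHom.fst Q Q) * E.fC.comp (MonoidHom.snd Q Q))
    (by
      show E.fC E.D.ε * E.fC E.D.ε = 1
      exact Int.units_mul_self _)
    (fun a b => by
      show E.fC (E.D.σ a) * E.fC (E.D.σ b) = E.fC a * E.fC b
      rw [E.fC_sigma, E.fC_sigma]) 1

theorem χN_psi (p : Q × Q) : E.χN (E.ψ p) = 1 := E.lift_apply _ _ _ _ p

theorem χN_iff (s : S) : E.χN s = 1 ↔ ∃ a b, s = E.ψ (a, b) := by
  refine ⟨fun h => (E.forms s).resolve_right fun ⟨a, b, e⟩ => ?_, fun ⟨a, b, e⟩ => e ▸ E.χN_psi _⟩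
  subst e
  rw [map_mul, E.χN_psi, one_mul, χN, lift_apply_t] at h
  exact absurd h (by decide)

theorem χ1_psi (a b : Q) : E.χ1 (E.ψ (a, b)) = E.fC a := E.lift_apply _ _ _ _ (a, b)

theorem χ12_psi (a b : Q) : E.χ12 (E.ψ (a, b)) = E.fC a * E.fC b := E.lift_apply _ _ _ _ (a, b)

/-- The central involution. -/
def z : S := E.ψ (1, E.D.ε)

/-- The second square. -/
def u : S := E.ψ (E.D.i, E.D.i)

theorem zu_eq : E.z * E.u = E.ψ (E.D.i, E.D.ε * E.D.i) := by rw [z, u, psi_mul, one_mul]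

theorem z_eq' : E.ψ (E.D.ε, 1) = E.z := by
  rw [z, ← E.psi_eps 1 E.D.ε, mul_one, E.D.hεε]

theorem sq_one_pair {p q : Q} (hp : p * p = 1) (hq : q * q = 1) :
    E.ψ (p, q) = 1 ∨ E.ψ (p, q) = E.z := by
  rcases E.D.sq_one_cases hp with rfl | rfl <;> rcases E.D.sq_one_cases hq with rfl | rfl
  · exact Or.inl (map_one E.ψ)
  · exact Or.inr rfl
  · exact Or.inr E.z_eq'
  · exact Or.inl E.hε

theorem inv_pair {p q : Q} (hv : Inv2 (E.ψ (p, q))) (hz : E.ψ (p, q) ≠ E.z) :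
    p * p = E.D.ε ∧ q * q = E.D.ε := by
  have h : E.ψ (p * p, q * q) = 1 := by rw [← E.psi_mul]; exact hv.1
  rcases E.hker _ h with h' | h'
  · rw [Prod.mk_eq_one] at h'
    rcases E.sq_one_pair h'.1 h'.2 with e | e
    · exact absurd e hv.2
    · exact absurd e hz
  · rw [Prod.mk.injEq] at h'
    exact h'

theorem cyclic_pair {p q : Q} (hp : p ∈ C) (hq : q ∈ C) (hv : Inv2 (E.ψ (p, q))) :
    E.ψ (p, q) = E.z ∨ E.ψ (p, q) = E.u ∨ E.ψ (p, q) = E.z * E.u := by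
  by_cases hz : E.ψ (p, q) = E.z
  · exact Or.inl hz
  obtain ⟨h1, h2⟩ := E.inv_pair hv hz
  rcases E.D.sq_eps_cases hp h1 with rfl | rfl <;> rcases E.D.sq_eps_cases hq h2 with rfl | rfl
  · exact Or.inr (Or.inl rfl)
  · exact Or.inr (Or.inr E.zu_eq.symm)
  · refine Or.inr (Or.inr ?_)
    rw [zu_eq, ← E.psi_eps E.D.i, ← mul_assoc, E.D.hεε, one_mul]
  · exact Or.inr (Or.inl (E.psi_eps _ _))

theorem inner_data {a b : Q} (hv : Inv2 (E.ψ (a, b))) (h1 : E.ψ (a, b) ≠ E.z)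
    (h2 : E.ψ (a, b) ≠ E.u) (h3 : E.ψ (a, b) ≠ E.z * E.u) :
    a * a = E.D.ε ∧ b * b = E.D.ε ∧ ¬ (a ∈ C ∧ b ∈ C) := by
  obtain ⟨ha, hb⟩ := E.inv_pair hv h1
  exact ⟨ha, hb, fun h => by rcases E.cyclic_pair h.1 h.2 hv with e | e | e <;> contradiction⟩

theorem outer_data {a b : Q} (hv : Inv2 (E.ψ (a, b) * E.t)) :
    (a * E.D.σ a = 1 ∨ a * E.D.σ a = E.D.ε) ∧ (b * E.D.σ b = 1 ∨ b * E.D.σ b = E.D.ε) := by
  have h := hv.1
  rw [mul_assoc, E.t_mul, E.ht, mul_one, E.psi_mul] at h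
  rcases E.hker _ h with h' | h'
  · rw [Prod.mk_eq_one] at h'
    exact ⟨Or.inl h'.1, Or.inl h'.2⟩
  · rw [Prod.mk.injEq] at h'
    exact ⟨Or.inr h'.1, Or.inr h'.2⟩

theorem outer_move (a b g h : Q) : E.ψ (a, b) * E.t * E.ψ (g, h) =
    E.ψ (E.D.tau a g, E.D.tau b h) * (E.ψ (a, b) * E.t) := by
  rw [mul_assoc, E.hconj, ← mul_assoc, ← mul_assoc, E.psi_mul, E.psi_mul]
  simp [QData.tau, mul_assoc]

theorem card_map_psi (P : Subgroup (Q × Q)) (hP : (E.D.ε, E.D.ε) ∈ P) :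
    Nat.card P = 2 * Nat.card (P.map E.ψ) := by
  set f := E.ψ.subgroupMap P with hf
  have hk : Nat.card f.ker = 2 := by
    have hm : (⟨_, hP⟩ : P) ∈ f.ker := MonoidHom.mem_ker.2 (Subtype.ext E.hε)
    rw [Nat.card_eq_two_iff]
    refine ⟨1, ⟨_, hm⟩, ?_, Set.eq_univ_iff_forall.2 ?_⟩
    · intro e
      exact E.D.hε1 (congrArg (fun v : f.ker => v.1.1.1) e).symm
    · rintro ⟨⟨p, hp⟩, hv⟩
      rcases E.hker p (congrArg Subtype.val (MonoidHom.mem_ker.1 hv)) with e | e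
      · left; exact Subtype.ext (Subtype.ext e)
      · right; exact Subtype.ext (Subtype.ext e)
  rw [Subgroup.card_eq_card_quotient_mul_card_subgroup f.ker, hk, mul_comm 2]
  congr 1
  exact Nat.card_congr
    (QuotientGroup.quotientKerEquivOfSurjective f (MonoidHom.subgroupMap_surjective _ _)).toEquiv

include E in
theorem card_S [Finite S] [Finite Q] : Nat.card S = Nat.card Q * Nat.card Q := by
  have h := E.card_map_psi ⊤ (mem_top _)
  rw [Subgroup.card_top, Nat.card_prod] at h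
  rw [h]
  let f : Bool × (Subgroup.map E.ψ ⊤ : Subgroup S) → S :=
    fun v => if v.1 then v.2.1 * E.t else v.2.1
  have hf : Function.Bijective f := by
    constructor
    · intro v w hv
      obtain ⟨_ | _, ⟨_, p, hp, rfl⟩⟩ := v <;> obtain ⟨_ | _, ⟨_, p', hp', rfl⟩⟩ := w <;>
        simp only [f, Bool.false_eq_true, if_true, if_false] at hv
      · exact Prod.ext rfl (Subtype.ext hv)
      · exact absurd hv (E.psi_ne_psi_t _ _)
      · exact absurd hv.symm (E.psi_ne_psi_t _ _)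
      · exact Prod.ext rfl (Subtype.ext (mul_right_cancel hv))
    · intro s
      obtain ⟨p, rfl | rfl⟩ := E.hsurj s
      · exact ⟨(false, ⟨_, p, mem_top _, rfl⟩), rfl⟩
      · exact ⟨(true, ⟨_, p, mem_top _, rfl⟩), rfl⟩
  rw [← Nat.card_eq_of_bijective f hf, Nat.card_prod]
  simp

theorem cnum_eq (v : S) : cnum v = Nat.card (Subgroup.centralizer ({v} : Set S)) :=
  Nat.card_congr (Equiv.subtypeEquivRight fun s => (mem_centralizer_singleton_iff).symm)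

theorem card_commute_psi [Finite Q] {a b : Q} (ha : a * a = E.D.ε) (hb : b * b = E.D.ε) :
    Nat.card ((Subgroup.centralizer ({E.ψ (a, b)} : Set S)).comap E.ψ) =
      2 * (Nat.card {g : Q // Commute g a} * Nat.card {g : Q // Commute g b}) := by
  obtain ⟨ga, hga⟩ := E.D.exists_flip ha
  obtain ⟨gb, hgb⟩ := E.D.exists_flip hb
  set P := (Subgroup.centralizer ({E.ψ (a, b)} : Set S)).comap E.ψ
  have mem : ∀ g h, (g, h) ∈ P ↔ (Commute g a ∧ Commute h b) ∨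
      (g * a * g⁻¹ = E.D.ε * a ∧ h * b * h⁻¹ = E.D.ε * b) := by
    intro g h
    rw [Subgroup.mem_comap, mem_centralizer_singleton_iff, ← mul_inv_eq_iff_eq_mul, ← map_inv,
      Prod.inv_mk, E.psi_mul, E.psi_mul]
    constructor
    · intro e
      rcases E.psi_eq e with ⟨e1, e2⟩ | e1
      · exact Or.inl ⟨mul_inv_eq_iff_eq_mul.1 e1, mul_inv_eq_iff_eq_mul.1 e2⟩
      · exact Or.inr e1
    · rintro (⟨e1, e2⟩ | ⟨e1, e2⟩)
      · rw [e1.mul_inv_cancel, e2.mul_inv_cancel]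
      · rw [e1, e2, E.psi_eps]
  let F : Bool × ({g : Q // Commute g a} × {g : Q // Commute g b}) → P := fun v =>
    if v.1 then ⟨(ga * v.2.1.1, gb * v.2.2.1), (mem _ _).2 (Or.inr
      ⟨by rw [← hga, show ga * v.2.1.1 * a * (ga * v.2.1.1)⁻¹ = ga * (v.2.1.1 * a * v.2.1.1⁻¹) * ga⁻¹
          by group, v.2.1.2.mul_inv_cancel],
        by rw [← hgb, show gb * v.2.2.1 * b * (gb * v.2.2.1)⁻¹ = gb * (v.2.2.1 * b * v.2.2.1⁻¹) * gb⁻¹
          by group, v.2.2.2.mul_inv_cancel]⟩)⟩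
    else ⟨(v.2.1.1, v.2.2.1), (mem _ _).2 (Or.inl ⟨v.2.1.2, v.2.2.2⟩)⟩
  have hne : ∀ g, ga * g * a * (ga * g)⁻¹ = E.D.ε * a → ¬ Commute (ga * g) a := by
    intro g e hc
    rw [hc.mul_inv_cancel, eq_comm, mul_eq_right] at e
    exact E.D.hε1 e
  have hF : Function.Bijective F := by
    constructor
    · rintro ⟨e, ⟨g, hg⟩, ⟨h, hh⟩⟩ ⟨e', ⟨g', hg'⟩, ⟨h', hh'⟩⟩ hv
      have hv' := congrArg (fun w : P => w.1) hv
      cases e <;> cases e' <;>
        simp only [F, Bool.false_eq_true, if_true, if_false, Prod.mk.injEq] at hv'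
      · obtain ⟨rfl, rfl⟩ := hv'; rfl
      · exact absurd (hv'.1 ▸ hg) (hne g' (by
          rw [← hga, show ga * g' * a * (ga * g')⁻¹ = ga * (g' * a * g'⁻¹) * ga⁻¹ by group,
            hg'.mul_inv_cancel]))
      · exact absurd (hv'.1.symm ▸ hg') (hne g (by
          rw [← hga, show ga * g * a * (ga * g)⁻¹ = ga * (g * a * g⁻¹) * ga⁻¹ by group,
            hg.mul_inv_cancel]))
      · obtain ⟨rfl, rfl⟩ : g = g' ∧ h = h' := ⟨mul_left_cancel hv'.1, mul_left_cancel hv'.2⟩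
        rfl
    · rintro ⟨⟨g, h⟩, hm⟩
      rcases (mem g h).1 hm with ⟨e1, e2⟩ | ⟨e1, e2⟩
      · exact ⟨(false, ⟨g, e1⟩, ⟨h, e2⟩), rfl⟩
      · have flip : ∀ c g0 g1 : Q, g0 * c * g0⁻¹ = E.D.ε * c → g1 * c * g1⁻¹ = E.D.ε * c →
            Commute (g0⁻¹ * g1) c := by
          intro c g0 g1 h0 h1
          refine mul_inv_eq_iff_eq_mul.1 ?_
          calc g0⁻¹ * g1 * c * (g0⁻¹ * g1)⁻¹ = g0⁻¹ * (g1 * c * g1⁻¹) * g0 := by group
            _ = c := by rw [h1, ← h0]; group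
        exact ⟨(true, ⟨ga⁻¹ * g, flip a ga g hga e1⟩, ⟨gb⁻¹ * h, flip b gb h hgb e2⟩),
          Subtype.ext (Prod.ext (mul_inv_cancel_left ga g) (mul_inv_cancel_left gb h))⟩
  rw [← Nat.card_eq_of_bijective F hF, Nat.card_prod, Nat.card_prod]
  simp

theorem cnum_ge [Finite S] [Finite Q] {a b : Q} (ha : a * a = E.D.ε) (hb : b * b = E.D.ε) :
    Nat.card {g : Q // Commute g a} * Nat.card {g : Q // Commute g b} ≤ cnum (E.ψ (a, b)) := by
  have h1 := E.card_commute_psi ha hb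
  rw [E.card_map_psi _ (by rw [Subgroup.mem_comap, E.hε]; exact one_mem _)] at h1
  have h2 := Subgroup.card_le_of_le
    (Subgroup.map_comap_le E.ψ (Subgroup.centralizer ({E.ψ (a, b)} : Set S)))
  rw [cnum_eq]
  omega

theorem cnum_out_out_le [Finite S] [Finite Q] {a b : Q} (ha : a ∉ C) (hb : b ∉ C) :
    cnum (E.ψ (a, b)) ≤ 16 := by
  have ha2 := E.D.hout a ha
  have hb2 := E.D.hout b hb
  have h1 := E.card_commute_psi ha2 hb2
  rw [E.card_map_psi _ (by rw [Subgroup.mem_comap, E.hε]; exact one_mem _)] at h1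
  have hsub : Subgroup.centralizer ({E.ψ (a, b)} : Set S) ≤
      ((Subgroup.centralizer ({E.ψ (a, b)} : Set S)).comap E.ψ).map E.ψ := by
    intro s hs
    obtain ⟨⟨g, h⟩, rfl | rfl⟩ := E.hsurj s
    · exact ⟨_, hs, rfl⟩
    · exfalso
      rw [mem_centralizer_singleton_iff, mul_assoc, E.hconj, ← mul_assoc, ← mul_assoc,
        mul_right_cancel_iff, E.psi_mul, E.psi_mul] at hs
      rcases E.psi_eq hs with ⟨e, -⟩ | ⟨e, -⟩
      · exact (E.D.sigma_pm ha g).1 (mul_inv_eq_iff_eq_mul.2 e)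
      · exact (E.D.sigma_pm ha g).2 (mul_inv_eq_iff_eq_mul.2 (by rw [e, mul_assoc]))
  have h2 := Subgroup.card_le_of_le hsub
  have h3 := Nat.mul_le_mul (E.D.card_centralizer_out_le ha) (E.D.card_centralizer_out_le hb)
  rw [cnum_eq]
  omega

theorem outer_inner {a b g h : Q} (ha : a * E.D.σ a = 1 ∨ a * E.D.σ a = E.D.ε)
    (hb : b * E.D.σ b = 1 ∨ b * E.D.σ b = E.D.ε)
    (hc : Commute (E.ψ (g, h)) (E.ψ (a, b) * E.t)) :
    E.ψ (g, h) = 1 ∨ E.ψ (g, h) = E.z ∨ E.ψ (g, h) = E.u ∨ E.ψ (g, h) = E.z * E.u := by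
  have e := hc.eq
  rw [E.outer_move, mul_right_cancel_iff] at e
  rcases E.psi_eq e.symm with ⟨e1, e2⟩ | ⟨e1, e2⟩
  · have hg : g * g = 1 := by
      rcases (E.D.tau_fix ha).1 e1 with rfl | rfl
      exacts [one_mul _, E.D.hεε]
    have hh : h * h = 1 := by
      rcases (E.D.tau_fix hb).1 e2 with rfl | rfl
      exacts [one_mul _, E.D.hεε]
    rcases E.sq_one_pair hg hh with r | r
    exacts [Or.inl r, Or.inr (Or.inl r)]
  · rcases (E.D.tau_fix ha).2 e1 with rfl | rfl <;> rcases (E.D.tau_fix hb).2 e2 with rfl | rfl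
    · exact Or.inr (Or.inr (Or.inl rfl))
    · exact Or.inr (Or.inr (Or.inr E.zu_eq.symm))
    · refine Or.inr (Or.inr (Or.inr ?_))
      rw [zu_eq, ← E.psi_eps E.D.i, ← mul_assoc, E.D.hεε, one_mul]
    · exact Or.inr (Or.inr (Or.inl (E.psi_eps _ _)))

theorem cnum_outer_le [Finite S] {a b : Q} (hv : Inv2 (E.ψ (a, b) * E.t)) :
    cnum (E.ψ (a, b) * E.t) ≤ 8 := by
  classical
  obtain ⟨ha, hb⟩ := E.outer_data hv
  set v := E.ψ (a, b) * E.t with hv'
  set L : List S := [1, E.z, E.u, E.z * E.u] ++ [1 * v, E.z * v, E.u * v, E.z * E.u * v] with hL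
  have h : ∀ s : {s : S // Commute s v}, s.1 ∈ L.toFinset := by
    rintro ⟨s, hs⟩
    rw [List.mem_toFinset, hL, List.mem_append]
    dsimp only
    obtain ⟨⟨g, h⟩, rfl | rfl⟩ := E.hsurj s
    · left
      rcases E.outer_inner ha hb hs with r | r | r | r <;> rw [r] <;> simp
    · right
      have e : E.ψ (g, h) * E.t = E.ψ (g * a⁻¹, h * b⁻¹) * v := by
        rw [hv', ← mul_assoc, E.psi_mul, inv_mul_cancel_right, inv_mul_cancel_right]
      have hc : Commute (E.ψ (g * a⁻¹, h * b⁻¹)) v := by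
        have := hs.mul_left ((Commute.refl v).inv_left)
        rwa [e, mul_inv_cancel_right] at this
      rw [e]
      rcases E.outer_inner ha hb hc with r | r | r | r <;> rw [r] <;> simp
  calc cnum v ≤ Nat.card {s // s ∈ L.toFinset} :=
        Nat.card_le_card_of_injective (fun s => ⟨s.1, h s⟩) fun s s' e =>
          Subtype.ext (congrArg (fun w : {s // s ∈ L.toFinset} => w.1) e)
    _ = L.toFinset.card := by rw [Nat.card_eq_fintype_card, Fintype.card_coe]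
    _ ≤ L.length := List.toFinset_card_le L
    _ = 8 := by simp [hL]

theorem outer_comm_u {a b : Q} (hv : Inv2 (E.ψ (a, b) * E.t)) :
    Commute E.u (E.ψ (a, b) * E.t) := by
  obtain ⟨ha, hb⟩ := E.outer_data hv
  refine Commute.symm ?_
  show E.ψ (a, b) * E.t * E.ψ (E.D.i, E.D.i) = E.ψ (E.D.i, E.D.i) * (E.ψ (a, b) * E.t)
  rw [E.outer_move, E.D.tau_i ha, E.D.tau_i hb, E.psi_eps]

theorem outer_conj {a b a' b' : Q} (hv : Inv2 (E.ψ (a, b) * E.t))
    (hv' : Inv2 (E.ψ (a', b') * E.t)) :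
    ∃ s, s * (E.ψ (a, b) * E.t) * s⁻¹ = E.ψ (a', b') * E.t := by
  obtain ⟨ha, hb⟩ := E.outer_data hv
  obtain ⟨p, rfl⟩ : ∃ p, a' = p * a := ⟨a' * a⁻¹, (inv_mul_cancel_right a' a).symm⟩
  obtain ⟨q, rfl⟩ : ∃ q, b' = q * b := ⟨b' * b⁻¹, (inv_mul_cancel_right b' b).symm⟩
  set v := E.ψ (a, b) * E.t with hvd
  have e : E.ψ (p * a, q * b) * E.t = E.ψ (p, q) * v := by
    rw [hvd, ← mul_assoc, E.psi_mul]
  rw [e] at hv' ⊢
  have hsq : E.ψ (p * E.D.tau a p, q * E.D.tau b q) = 1 := by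
    have h := hv'.1
    rw [mul_assoc, ← mul_assoc v, hvd, E.outer_move, ← hvd, mul_assoc, hv.1, mul_one,
      E.psi_mul] at h
    exact h
  have hpq : p ∈ C ∧ q ∈ C := by
    rcases E.hker _ hsq with h' | h'
    · rw [Prod.mk_eq_one] at h'
      exact ⟨E.D.mem_of_tau ha (Or.inl h'.1), E.D.mem_of_tau hb (Or.inl h'.2)⟩
    · rw [Prod.mk.injEq] at h'
      exact ⟨E.D.mem_of_tau ha (Or.inr h'.1), E.D.mem_of_tau hb (Or.inr h'.2)⟩
  obtain ⟨g, hg⟩ := E.D.tau_surj ha hpq.1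
  obtain ⟨h, hh⟩ := E.D.tau_surj hb hpq.2
  have hinv : ∀ (c x : Q), E.D.tau c x⁻¹ = (E.D.tau c x)⁻¹ := by
    intro c x
    simp [QData.tau, mul_assoc]
  refine ⟨E.ψ (g, h), ?_⟩
  rw [← map_inv, Prod.inv_mk, mul_assoc, hvd, E.outer_move, ← mul_assoc, E.psi_mul, hinv, hinv,
    hg, hh]

/-- For the smallest order the involutions with cyclic first coordinate form one class. -/
theorem inner_conj [Finite Q] (hk : E.D.k = 2) {a b a' b' : Q} (ha : a ∈ C) (ha2 : a * a = E.D.ε)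
    (ha' : a' ∈ C) (ha2' : a' * a' = E.D.ε) (hb : b ∉ C) (hb' : b' ∉ C) :
    ∃ s, s * E.ψ (a, b) * s⁻¹ = E.ψ (a', b') := by
  have hCi : ∀ c ∈ C, c = 1 ∨ c = E.D.ε ∨ c = E.D.i ∨ c = E.D.ε * E.D.i := by
    intro c hc
    have hx4 : orderOf E.D.x = 4 := by rw [E.D.hx, hk]; rfl
    have hi : E.D.i = E.D.x := by rw [QData.i, hk]; simp
    obtain ⟨j, rfl⟩ := mem_zpowers_iff.1 hc
    rw [← zpow_mod_orderOf, hx4]
    have h1 := Int.emod_nonneg j (show ((4 : ℕ) : ℤ) ≠ 0 by norm_num)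
    have h2 := Int.emod_lt_of_pos j (show (0 : ℤ) < ((4 : ℕ) : ℤ) by norm_num)
    have e2 : E.D.x * E.D.x = E.D.ε := by rw [← hi]; exact E.D.i_sq
    rw [hi]
    generalize j % ((4 : ℕ) : ℤ) = r at h1 h2
    push_cast at h2
    interval_cases r
    · exact Or.inl (zpow_zero _)
    · exact Or.inr (Or.inr (Or.inl (zpow_one _)))
    · exact Or.inr (Or.inl (by rw [zpow_two, e2]))
    · exact Or.inr (Or.inr (Or.inr (by
        rw [show (3 : ℤ) = 2 + 1 from rfl, zpow_add, zpow_two, e2, zpow_one])))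
  -- conjugating inside the two factors
  have inner : ∀ {c d c' d' : Q}, (∃ g, g * c * g⁻¹ = c') → (∃ h, h * d * h⁻¹ = d') →
      ∃ s, s * E.ψ (c, d) * s⁻¹ = E.ψ (c', d') := by
    rintro c d _ _ ⟨g, rfl⟩ ⟨h, rfl⟩
    exact ⟨E.ψ (g, h), by rw [← map_inv, Prod.inv_mk, E.psi_mul, E.psi_mul]⟩
  have first : ∀ {c c' : Q}, c ∈ C → c * c = E.D.ε → c' ∈ C → c' * c' = E.D.ε →
      ∃ g, g * c * g⁻¹ = c' := by
    intro c c' h1 h2 h1' h2'
    obtain ⟨g, hg⟩ := E.D.exists_flip h2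
    rcases E.D.sq_eps_cases h1 h2 with rfl | rfl <;>
      rcases E.D.sq_eps_cases h1' h2' with rfl | rfl
    · exact ⟨1, by group⟩
    · exact ⟨g, hg⟩
    · exact ⟨g, by rw [hg, ← mul_assoc, E.D.hεε, one_mul]⟩
    · exact ⟨1, by group⟩
  have second : ∀ {d d' : Q}, d ∉ C → d' * d⁻¹ = 1 ∨ d' * d⁻¹ = E.D.ε →
      ∃ h, h * d * h⁻¹ = d' := by
    rintro d d' hd (h | h)
    · exact ⟨1, by rw [mul_inv_eq_one.1 h]; group⟩
    · exact ⟨E.D.i, by rw [E.D.i_conj hd, ← h, inv_mul_cancel_right]⟩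
  have hc := E.D.out_mul hb' (b := b⁻¹) fun h => hb (inv_mem_iff.1 h)
  rcases hCi _ hc with h | h | h
  · exact inner (first ha ha2 ha' ha2') (second hb (Or.inl h))
  · exact inner (first ha ha2 ha' ha2') (second hb (Or.inr h))
  -- otherwise apply the outer involution first
  have hsb := E.D.sigma_not_mem hb
  have hd := E.D.out_mul hb' (b := (E.D.σ b)⁻¹) fun h => hsb (inv_mem_iff.1 h)
  have hd' : b' * (E.D.σ b)⁻¹ = 1 ∨ b' * (E.D.σ b)⁻¹ = E.D.ε := by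
    have hcs := E.D.out_mul hsb (b := b⁻¹) fun h => hb (inv_mem_iff.1 h)
    have hσb : E.D.σ b * b⁻¹ = E.D.i ∨ E.D.σ b * b⁻¹ = E.D.ε * E.D.i := by
      rcases hCi _ hcs with e | e | e
      · refine absurd ?_ (E.D.sigma_pm hb 1).1
        rw [one_mul, inv_one, mul_one, mul_inv_eq_one.1 e]
      · refine absurd ?_ (E.D.sigma_pm hb 1).2
        rw [one_mul, inv_one, mul_one, ← mul_inv_eq_iff_eq_mul.1 e]
      · exact e
    have e : b' * (E.D.σ b)⁻¹ = b' * b⁻¹ * (E.D.σ b * b⁻¹)⁻¹ := by group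
    rw [e]
    rcases h with h1 | h1 <;> rcases hσb with h2 | h2 <;> rw [h1, h2]
    · exact Or.inl (mul_inv_cancel _)
    · refine Or.inr ?_
      rw [mul_inv_rev, ← mul_assoc, mul_inv_cancel, one_mul, inv_eq_of_mul_eq_one_right E.D.hεε]
    · exact Or.inr (mul_inv_cancel_right _ _)
    · exact Or.inl (mul_inv_cancel _)
  obtain ⟨s, hs⟩ := inner (first (E.D.sigma_mem ha)
    (by rw [← map_mul, ha2, E.D.sigma_eps]) ha' ha2') (second hsb hd')
  refine ⟨s * E.t, ?_⟩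
  rw [mul_inv_rev, inv_eq_of_mul_eq_one_right E.ht, ← hs]
  calc s * E.t * E.ψ (a, b) * (E.t * s⁻¹) = s * (E.t * (E.ψ (a, b) * E.t)) * s⁻¹ := by
        simp only [mul_assoc]
    _ = _ := by rw [E.t_mul, E.ht, mul_one]

theorem inv2_u : Inv2 E.u := by
  refine ⟨by rw [u, E.psi_mul, E.D.i_sq, E.hε], fun h => ?_⟩
  rcases E.hker _ h with h' | h'
  · exact E.D.eps_ne_i.1 (congrArg Prod.fst h')
  · exact E.D.eps_ne_i.2 (congrArg Prod.fst h')

theorem z_central (s : S) : Commute E.z s := by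
  obtain ⟨⟨a, b⟩, rfl | rfl⟩ := E.hsurj s
  · show E.ψ (1, E.D.ε) * E.ψ (a, b) = E.ψ (a, b) * E.ψ (1, E.D.ε)
    rw [E.psi_mul, E.psi_mul, one_mul, mul_one, (E.D.hcen b).eq]
  · show E.ψ (1, E.D.ε) * (E.ψ (a, b) * E.t) = E.ψ (a, b) * E.t * E.ψ (1, E.D.ε)
    rw [mul_assoc _ E.t, E.hconj, map_one, E.D.sigma_eps, ← mul_assoc, ← mul_assoc, E.psi_mul,
      E.psi_mul, one_mul, mul_one, (E.D.hcen b).eq]

/-- The invariants hold. -/
noncomputable def facts [Finite S] [Finite Q] : Facts S where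
  z := E.z
  u := E.u
  χN := E.χN
  hz := ⟨by rw [z, E.psi_mul, one_mul, E.D.hεε]; exact map_one E.ψ, fun h => by
    rcases E.hker _ h with h' | h'
    · exact E.D.hε1 (congrArg Prod.snd h')
    · exact E.D.hε1 (congrArg Prod.fst h').symm⟩
  hu := E.inv2_u
  huz := fun h => by
    rcases E.psi_eq h with ⟨e, -⟩ | ⟨e, -⟩
    · exact E.D.eps_ne_i.1 e
    · exact E.D.eps_ne_i.2 (by rw [e, mul_one])
  z_central := E.z_central
  χN_z := E.χN_psi _
  χN_u := E.χN_psi _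
  u_conj := by
    obtain ⟨g, hg⟩ := E.D.exists_flip E.D.i_sq
    refine ⟨E.ψ (g, 1), ?_⟩
    rw [u, ← map_inv, Prod.inv_mk, E.psi_mul, E.psi_mul, hg, ← E.z_eq', E.psi_mul, inv_one, one_mul,
      mul_one]
  sq_mem s h := by
    obtain ⟨⟨a, b⟩, rfl | rfl⟩ := E.hsurj s
    · rw [E.psi_mul] at h ⊢
      exact E.cyclic_pair (E.D.sq_mem a) (E.D.sq_mem b) h
    · rw [mul_assoc, E.t_mul, E.ht, mul_one, E.psi_mul] at h ⊢
      exact E.cyclic_pair (E.D.mul_sigma_mem a) (E.D.mul_sigma_mem b) h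
  in_root v hv hN h1 h2 h3 := by
    obtain ⟨a, b, rfl⟩ := (E.χN_iff v).1 hN
    obtain ⟨ha, -, -⟩ := E.inner_data hv h1 h2 h3
    refine ⟨E.ψ (a, 1), ?_, ?_⟩
    · show E.ψ (a, 1) * E.ψ (a, b) = E.ψ (a, b) * E.ψ (a, 1)
      rw [E.psi_mul, E.psi_mul, one_mul, mul_one]
    · rw [E.psi_mul, ha, one_mul, E.z_eq']
  in_large v hv hN h1 h2 h3 := by
    obtain ⟨a, b, rfl⟩ := (E.χN_iff v).1 hN
    obtain ⟨ha, hb, -⟩ := E.inner_data hv h1 h2 h3
    exact le_trans (Nat.mul_le_mul (E.D.four_le_card_centralizer a)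
      (E.D.four_le_card_centralizer b)) (E.cnum_ge ha hb)
  out_comm v hv hN := by
    rcases E.forms v with ⟨a, b, rfl⟩ | ⟨a, b, rfl⟩
    · exact absurd (E.χN_psi _) hN
    · exact E.outer_comm_u hv
  out_small v hv hN := by
    rcases E.forms v with ⟨a, b, rfl⟩ | ⟨a, b, rfl⟩
    · exact absurd (E.χN_psi _) hN
    · exact E.cnum_outer_le hv
  out_conj v v' hv hv' hN hN' := by
    rcases E.forms v with ⟨a, b, rfl⟩ | ⟨a, b, rfl⟩
    · exact absurd (E.χN_psi _) hN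
    rcases E.forms v' with ⟨a', b', rfl⟩ | ⟨a', b', rfl⟩
    · exact absurd (E.χN_psi _) hN'
    exact E.outer_conj hv hv'
  dich := by
    by_cases hk : E.D.k = 2
    · refine Or.inr ⟨?_, E.χ1, ?_⟩
      · have hQ : Nat.card Q = 8 := by
          rw [← (zpowers E.D.x).card_mul_index, Nat.card_zpowers, E.D.hidx, E.D.hx, hk]
          rfl
        rw [E.card_S, hQ]
      · intro v v' hv hN h1 h2 h3 hχ hv' hN' h1' h2' h3' hχ'
        obtain ⟨a, b, rfl⟩ := (E.χN_iff v).1 hN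
        obtain ⟨a', b', rfl⟩ := (E.χN_iff v').1 hN'
        obtain ⟨ha, -, hab⟩ := E.inner_data hv h1 h2 h3
        obtain ⟨ha', -, hab'⟩ := E.inner_data hv' h1' h2' h3'
        rw [E.χ1_psi] at hχ hχ'
        have hm : a ∈ C := (E.fC_eq_one a).1 hχ
        have hm' : a' ∈ C := (E.fC_eq_one a').1 hχ'
        exact E.inner_conj hk hm ha hm' ha' (fun h => hab ⟨hm, h⟩) fun h => hab' ⟨hm', h⟩
    · refine Or.inl ⟨E.χ12, E.χ1, ?_, ?_⟩
      · intro v hv hN h1 h2 h3 hχ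
        obtain ⟨a, b, rfl⟩ := (E.χN_iff v).1 hN
        obtain ⟨-, -, hab⟩ := E.inner_data hv h1 h2 h3
        rw [E.χ12_psi] at hχ
        have hχ' : E.fC a * E.fC b = 1 := hχ
        have he : E.fC a = E.fC b := by
          rw [eq_inv_of_mul_eq_one_left hχ', Int.units_inv_eq_self]
        refine E.cnum_out_out_le (fun h => hab ⟨h, ?_⟩) fun h => hab ⟨?_, h⟩
        · exact (E.fC_eq_one b).1 (he ▸ (E.fC_eq_one a).2 h)
        · exact (E.fC_eq_one a).1 (he.symm ▸ (E.fC_eq_one b).2 h)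
      · intro v hv hN h1 h2 h3 hχ
        obtain ⟨a, b, rfl⟩ := (E.χN_iff v).1 hN
        obtain ⟨ha, hb, -⟩ := E.inner_data hv h1 h2 h3
        rw [E.χ1_psi] at hχ
        have hm : a ∈ C := (E.fC_eq_one a).1 hχ
        refine le_trans ?_ (le_trans (Nat.mul_le_mul (E.D.card_centralizer_in_ge hm)
          (E.D.four_le_card_centralizer b)) (E.cnum_ge ha hb))
        calc 32 = 2 ^ 3 * 4 := by norm_num
          _ ≤ 2 ^ E.D.k * 4 := by
            have := E.D.hk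
            exact Nat.mul_le_mul_right 4 (Nat.pow_le_pow_right two_pos (by omega))

end CData

end CfsgLib.Involutions.G2Fusion
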