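import Cfsg.Agent.Lib.Involutions.G2Fusion.Central
import Cfsg.Agent.Lib.Involutions.G2SylowSquares
import Cfsg.Agent.Lib.FgsC.G2InvolMain
import Cfsg.Agent.Lib.Classical.SL2Sylow

/-!
The fusion invariants of a Sylow two-subgroup of the Chevalley group of type `G₂`, `q` odd.
-/

set_option autoImplicit false
set_option linter.unusedSectionVars false
set_option linter.style.haveILetI false

namespace CfsgLib.Involutions.G2Fusion

open Matrix
open CfsgLib.Involutions.G2Two (PData cjA cjA_coe)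
open CfsgLib.Involutions.PSpFour (SData av neg_coe)
open CfsgLib.FgsC.G2Invol (dconj hd TT TT_one TT_nu_conj TT_nu_notMem TT_sq Phi Phi_mul Phi_eq_one m1)

variable {F : Type*} [Field F]

local notation "M2" => Matrix (Fin 2) (Fin 2) F
local notation "SL2" => Matrix.SpecialLinearGroup (Fin 2) F

theorem m1_eq_neg : (m1 : SL2) = -1 := by
  refine Subtype.ext ?_
  rw [CfsgLib.FgsC.G2Invol.m1_val, neg_coe]
  ext i j
  fin_cases i <;> fin_cases j <;> simp

theorem inv_coe_eq (g : SL2) : (g⁻¹).1 = g.1.trace • (1 : M2) - g.1 := by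
  rw [Matrix.SpecialLinearGroup.coe_inv, Matrix.adjugate_fin_two]
  ext i j
  fin_cases i <;> fin_cases j <;> simp [Matrix.trace_fin_two]

theorem eq_one_of_trace_two (h2 : (2 : F) ≠ 0) {w : SL2} {n : ℕ} (hw : w ^ (2 ^ n) = 1)
    (ht : w.1.trace = 2) : w = 1 := by
  have hsq : (w.1 - 1) * (w.1 - 1) = 0 := by
    have h : w.1 * (w⁻¹).1 = 1 := congrArg Subtype.val (mul_inv_cancel w)
    rw [inv_coe_eq, ht, mul_sub, Matrix.mul_smul, mul_one] at h
    rw [sub_mul, mul_sub, mul_sub, mul_one, one_mul, one_mul]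
    rw [show (2 : F) • w.1 = w.1 + w.1 by rw [two_smul]] at h
    rw [← h]
    abel
  have hp : ∀ j : ℕ, (w ^ j).1 = 1 + (j : F) • (w.1 - 1) := by
    intro j
    induction j with
    | zero => simp
    | succ j ih =>
      rw [pow_succ, Matrix.SpecialLinearGroup.coe_mul, ih]
      have e : w.1 = 1 + (w.1 - 1) := by abel
      nth_rewrite 2 [e]
      rw [add_mul, mul_add, one_mul, one_mul, Matrix.smul_mul, mul_add, mul_one, hsq, add_zero,
        Nat.cast_succ, add_smul, one_smul]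
      abel
  have h := congrArg Subtype.val hw
  rw [hp, Matrix.SpecialLinearGroup.coe_one, add_eq_left, smul_eq_zero] at h
  refine Subtype.ext (sub_eq_zero.1 (h.resolve_left ?_))
  rw [Nat.cast_pow]
  exact pow_ne_zero _ (by exact_mod_cast h2)

/-- Commuting elements of two-power order with the same trace are equal or inverse. -/
theorem eq_or_inv_of_trace (h2 : (2 : F) ≠ 0) {Q : Subgroup SL2} (hQ : IsPGroup 2 Q) {u x : SL2}
    (hu : u ∈ Q) (hx : x ∈ Q) (hc : Commute u x) (ht : u.1.trace = x.1.trace) :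
    u = x ∨ u = x⁻¹ := by
  have key : ∀ y : SL2, y ∈ Q → (u.1 - y.1).det = 0 → u = y := by
    intro y hy hd
    set w := u * y⁻¹ with hw
    have hm : w.1 * y.1 = u.1 := by
      rw [← Matrix.SpecialLinearGroup.coe_mul, hw, inv_mul_cancel_right]
    have hd' : (w.1 - 1).det = 0 := by
      have : u.1 - y.1 = (w.1 - 1) * y.1 := by rw [sub_mul, one_mul, hm]
      rw [this, Matrix.det_mul, y.2, mul_one] at hd
      exact hd
    have htw : w.1.trace = 2 := by
      have hd2 := w.2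
      rw [Matrix.det_fin_two] at hd' hd2
      rw [Matrix.trace_fin_two]
      simp at hd'
      linear_combination hd2 - hd'
    obtain ⟨n, hn⟩ := hQ ⟨w, mul_mem hu (inv_mem hy)⟩
    exact mul_inv_eq_one.1 (eq_one_of_trace_two h2 (congrArg Subtype.val hn) htw)
  have hprod : (u.1 - x.1) * (u.1 - (x⁻¹).1) = 0 := by
    have e1 : u.1 * (u⁻¹).1 = 1 := congrArg Subtype.val (mul_inv_cancel u)
    have e2 : x.1 * (x⁻¹).1 = 1 := congrArg Subtype.val (mul_inv_cancel x)
    have e3 : u.1 * x.1 = x.1 * u.1 := congrArg Subtype.val hc.eq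
    rw [inv_coe_eq, mul_sub, Matrix.mul_smul, mul_one, ht] at e1
    rw [inv_coe_eq, mul_sub, Matrix.mul_smul, mul_one] at e2
    rw [inv_coe_eq, sub_mul, mul_sub, mul_sub, mul_sub, mul_sub, Matrix.mul_smul, Matrix.mul_smul,
      mul_one, mul_one, e3]
    rw [← sub_eq_zero.2 (e2.trans e1.symm)]
    abel
  have hd := congrArg Matrix.det hprod
  rw [Matrix.det_mul, Matrix.det_zero] at hd
  rcases mul_eq_zero.1 hd with h | h
  exacts [Or.inl (key x hx h), Or.inr (key _ (inv_mem hx) h)]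

variable [Fintype F] [NeZero (2 : F)] (P : PData F)

local notation "QQ" => (P.d.Q : Subgroup SL2)

theorem cj_cj (x : SL2) : cjA F P.c (cjA F P.c x) = x := by
  have hd0 : (-P.δ) ≠ 0 := neg_ne_zero.2 fun h => P.hδ (by rw [h]; exact IsSquare.zero)
  have hinv : (P.c⁻¹).1 * (P.c⁻¹).1 = (-P.δ)⁻¹ • (1 : M2) := by
    rw [← Units.val_mul, ← _root_.mul_inv_rev]
    refine Units.inv_eq_of_mul_eq_one_right ?_
    rw [Units.val_mul, P.hsq, Matrix.smul_mul, Matrix.mul_smul, one_mul, smul_smul,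
      mul_inv_cancel₀ hd0, one_smul]
  refine Subtype.ext ?_
  rw [cjA_coe, cjA_coe,
    show P.c.1 * (P.c.1 * x.1 * (P.c⁻¹).1) * (P.c⁻¹).1 =
      P.c.1 * P.c.1 * x.1 * ((P.c⁻¹).1 * (P.c⁻¹).1) by simp only [mul_assoc], hinv, P.hsq]
  simp [smul_smul, inv_mul_cancel₀ (show P.δ ≠ 0 from fun h => hd0 (by rw [h, neg_zero]))]

/-- The outer automorphism of the quaternion group. -/
noncomputable def sig : MulAut QQ where
  toFun v := ⟨cjA F P.c v.1, P.hc _ v.2⟩
  invFun v := ⟨cjA F P.c v.1, P.hc _ v.2⟩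
  left_inv v := Subtype.ext (cj_cj P v.1)
  right_inv v := Subtype.ext (cj_cj P v.1)
  map_mul' v w := Subtype.ext (map_mul (cjA F P.c) v.1 w.1)

theorem sig_coe (v : QQ) : (sig P v : SL2) = cjA F P.c v.1 := rfl

theorem trace_sig (v : QQ) : (sig P v : SL2).1.trace = (v : SL2).1.trace := by
  rw [sig_coe, cjA_coe, Matrix.trace_units_conj]

/-- No element of the outer coset centralizes the quaternion group. -/
theorem not_fix_all (w : QQ) (h : ∀ v : QQ, w * sig P v * w⁻¹ = v) : False := by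
  set M : M2 := (w : SL2).1 * P.c.1
  have hM : ∀ v : SL2, v ∈ QQ → M * v.1 = v.1 * M := by
    intro v hv
    have e : (w : SL2) * cjA F P.c v = v * w := by
      have := congrArg Subtype.val (h ⟨v, hv⟩)
      rw [Subgroup.coe_mul, Subgroup.coe_mul, Subgroup.coe_inv, mul_inv_eq_iff_eq_mul] at this
      exact this
    have e' := congrArg Subtype.val e
    simp only [Matrix.SpecialLinearGroup.coe_mul, cjA_coe] at e'
    calc M * v.1 = (w : SL2).1 * (P.c.1 * v.1 * (P.c⁻¹).1) * P.c.1 := by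
          simp [M, mul_assoc]
      _ = v.1 * M := by rw [e']; simp [M, mul_assoc]
  have hs := CfsgLib.Involutions.G2Two.scalar_of_commute P.d (hM _ P.d.ha) (hM _ P.d.hbQ)
  have hd := congrArg Matrix.det hs
  simp [M, P.hdet] at hd
  exact P.hδ ⟨_, by rw [hd, pow_two]⟩

/-- The data of the quaternion group. -/
theorem exists_qData : ∃ D : QData QQ, D.σ = sig P ∧ (D.ε : SL2) = -1 := by
  have h2 : (2 : F) ≠ 0 := NeZero.ne (2 : F)
  haveI : Fact (Nat.Prime 2) := ⟨Nat.prime_two⟩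
  obtain ⟨k, hk, ⟨e⟩⟩ := CfsgLib.Classical.sylow_two_SL2 h2 P.d.Q
  haveI : NeZero (2 ^ k) := ⟨by positivity⟩
  have hcard : Nat.card QQ = 4 * 2 ^ k := by
    rw [Nat.card_congr e.toEquiv, Nat.card_eq_fintype_card, QuaternionGroup.card]
  set ε : QQ := ⟨-1, P.d.neg_one_mem⟩ with hε
  have hε1 : ε ≠ 1 := fun h =>
    CfsgLib.Involutions.PSpFour.ne_neg (1 : SL2) (congrArg Subtype.val h).symm
  have hεε : ε * ε = 1 := Subtype.ext (by simp [ε])
  have hcen : ∀ v, Commute ε v := fun v => Subtype.ext (by simp [ε])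
  have hinv2 : ∀ v : QQ, v * v = 1 → v = 1 ∨ v = ε := fun v hv => by
    have hv' : (v : SL2) ^ 2 = 1 := by rw [pow_two]; exact congrArg Subtype.val hv
    rcases CfsgLib.Classical.sl2_eq_one_or_of_sq h2 (z := (-1 : SL2)) (by simp) hv' with h | h
    exacts [Or.inl (Subtype.ext h), Or.inr (Subtype.ext h)]
  set g : QQ := e.symm (QuaternionGroup.a 1) with hg
  have hgo : orderOf g = 2 ^ (k + 1) := by
    rw [hg, MulEquiv.orderOf_eq, QuaternionGroup.orderOf_a_one, pow_succ']
  have hpow : ∀ v : QQ, v ∈ Subgroup.zpowers g ∨ orderOf v = 4 := by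
    intro v
    rcases hv : e v with i | i
    · left
      refine Subgroup.mem_zpowers_iff.2 ⟨(i.val : ℤ), ?_⟩
      rw [zpow_natCast, hg, ← map_pow, QuaternionGroup.a_one_pow, ZMod.natCast_zmod_val, ← hv,
        MulEquiv.symm_apply_apply]
    · right
      rw [← e.orderOf_eq, hv, QuaternionGroup.orderOf_xa]
  have idx : ∀ x : QQ, orderOf x = 2 ^ (k + 1) → (Subgroup.zpowers x).index = 2 := by
    intro x hx
    have h := (Subgroup.zpowers x).card_mul_index
    rw [Nat.card_zpowers, hx, hcard, show 4 * 2 ^ k = 2 ^ (k + 1) * 2 by ring] at h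
    exact Nat.eq_of_mul_eq_mul_left (by positivity) h
  -- a cyclic subgroup invariant under the outer automorphism
  obtain ⟨x, hx, hσx, hout4⟩ : ∃ x : QQ, orderOf x = 2 ^ (k + 1) ∧
      sig P x ∈ Subgroup.zpowers x ∧ ∀ v, v ∉ Subgroup.zpowers x → v ^ 4 = 1 := by
    have hg4 : ∀ v, v ∉ Subgroup.zpowers g → v ^ 4 = 1 := fun v hv => by
      rw [← (hpow v).resolve_left hv, pow_orderOf_eq_one]
    by_cases hσg : sig P g ∈ Subgroup.zpowers g
    · exact ⟨g, hgo, hσg, hg4⟩
    have hk1 : k = 1 := by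
      by_contra hne
      have h4 := (hpow _).resolve_left hσg
      rw [MulEquiv.orderOf_eq, hgo, show (4 : ℕ) = 2 ^ 2 from rfl] at h4
      have := Nat.pow_right_injective le_rfl h4
      omega
    have h4 : ∀ v : QQ, v ^ 4 = 1 := by
      intro v
      rcases hpow v with h | h
      · obtain ⟨j, rfl⟩ := Subgroup.mem_zpowers_iff.1 h
        rw [← zpow_natCast, ← _root_.zpow_mul, mul_comm, _root_.zpow_mul, zpow_natCast,
          show g ^ 4 = 1 by rw [show 4 = orderOf g by rw [hgo, hk1]; rfl, pow_orderOf_eq_one],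
          _root_.one_zpow]
      · rw [← h, pow_orderOf_eq_one]
    set h := g * sig P g with hh
    have hhg : h ∉ Subgroup.zpowers g := fun hm =>
      hσg ((Subgroup.mul_mem_cancel_left _ (Subgroup.mem_zpowers g)).1 hm)
    have hho : orderOf h = 2 ^ (k + 1) := by
      rw [(hpow h).resolve_left hhg, hk1]; rfl
    haveI hn := Subgroup.normal_of_index_eq_two (idx h hho)
    refine ⟨h, hho, ?_, fun v _ => h4 v⟩
    have hσσ : sig P (sig P g) = g := Subtype.ext (cj_cj P g.1)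
    have : sig P h = g⁻¹ * h * g⁻¹⁻¹ := by rw [hh, map_mul, hσσ]; group
    rw [this]
    exact hn.conj_mem _ (Subgroup.mem_zpowers h) _
  have hσx' : sig P x = x ∨ sig P x = x⁻¹ := by
    obtain ⟨j, hj⟩ := Subgroup.mem_zpowers_iff.1 hσx
    have hc : Commute (sig P x) x := hj ▸ (Commute.refl x).zpow_left j
    rcases eq_or_inv_of_trace h2 P.d.Q.2 (sig P x).2 x.2 (congrArg Subtype.val hc.eq)
      (trace_sig P x) with h | h
    exacts [Or.inl (Subtype.ext h), Or.inr (Subtype.ext h)]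
  have hidx := idx x hx
  have hεC : ε ∈ Subgroup.zpowers x := by
    have hd : (x ^ 2 ^ k) * (x ^ 2 ^ k) = 1 := by
      rw [← pow_add, ← two_mul, ← pow_succ', ← hx, pow_orderOf_eq_one]
    rcases hinv2 _ hd with h | h
    · rw [← orderOf_dvd_iff_pow_eq_one, hx, Nat.pow_dvd_pow_iff_le_right one_lt_two] at h
      omega
    · exact h ▸ Subgroup.npow_mem_zpowers _ _
  have hout : ∀ v, v ∉ Subgroup.zpowers x → v * v = ε := by
    intro v hv
    have h4 := hout4 v hv
    rw [show 4 = 2 * 2 from rfl, pow_mul, pow_two v, pow_two] at h4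
    rcases hinv2 _ h4 with h | h
    · rcases hinv2 v h with rfl | rfl
      · exact absurd (one_mem _) hv
      · exact absurd hεC hv
    · exact h
  have hconjx : ∀ a : QQ, a ∉ Subgroup.zpowers x → a * x * a⁻¹ = x⁻¹ := by
    intro a ha
    have hax : a * x ∉ Subgroup.zpowers x := fun h =>
      ha ((Subgroup.mul_mem_cancel_right _ (Subgroup.mem_zpowers x)).1 h)
    have e : a * x * (a * x) = a * a := by rw [hout _ hax, hout _ ha]
    have e' : x * (a * x) = a := by rwa [mul_assoc, mul_right_inj] at e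
    calc a * x * a⁻¹ = x⁻¹ * (x * (a * x)) * a⁻¹ := by group
      _ = x⁻¹ := by rw [e']; group
  have hσa : ∀ a, a ∉ Subgroup.zpowers x → ∀ g, g * sig P a * g⁻¹ ≠ a := by
    intro a ha g hga
    have fin : ∀ w : QQ, w * sig P x * w⁻¹ = x → w * sig P a * w⁻¹ = a → False := by
      intro w hwx hwa
      refine not_fix_all P w fun v => ?_
      let φ : QQ →* QQ := (MulAut.conj w).toMonoidHom.comp (sig P).toMonoidHom
      have hC : ∀ c ∈ Subgroup.zpowers x, φ c = c := by
        intro c hc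
        obtain ⟨j, rfl⟩ := Subgroup.mem_zpowers_iff.1 hc
        rw [map_zpow]
        exact congrArg (· ^ j) hwx
      show φ v = v
      by_cases hv : v ∈ Subgroup.zpowers x
      · exact hC v hv
      · have hm : v * a⁻¹ ∈ Subgroup.zpowers x :=
          (Subgroup.mul_mem_iff_of_index_two hidx).2 (iff_of_false hv fun h => ha (inv_mem_iff.1 h))
        have e := hC _ hm
        rw [map_mul, map_inv, show φ a = a from hwa, mul_left_inj] at e
        exact e
    have hgx : g * sig P x * g⁻¹ = x ∨ g * sig P x * g⁻¹ = x⁻¹ := by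
      by_cases hg' : g ∈ Subgroup.zpowers x
      · obtain ⟨j, rfl⟩ := Subgroup.mem_zpowers_iff.1 hg'
        rcases hσx' with h | h <;> rw [h]
        · exact Or.inl (by group)
        · exact Or.inr (by group)
      · rcases hσx' with h | h <;> rw [h]
        · exact Or.inr (hconjx g hg')
        · exact Or.inl (by rw [← conj_inv, hconjx g hg', inv_inv])
    rcases hgx with h | h
    · exact fin g h hga
    · refine fin (a⁻¹ * g) ?_ ?_
      · calc a⁻¹ * g * sig P x * (a⁻¹ * g)⁻¹ = a⁻¹ * (g * sig P x * g⁻¹) * a := by group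
          _ = a⁻¹ * (a * x * a⁻¹) * a := by rw [h, hconjx a ha]
          _ = x := by group
      · calc a⁻¹ * g * sig P a * (a⁻¹ * g)⁻¹ = a⁻¹ * (g * sig P a * g⁻¹) * a := by group
          _ = a := by rw [hga]; group
  exact ⟨⟨x, ε, k + 1, sig P, (by omega), hx, hidx, hout, hε1, hεε, hcen,
    fun v => Subtype.ext (cj_cj P v.1), hσx', hσa⟩, rfl, rfl⟩

/-! ### The pieces inside the Chevalley group -/

set_option quotPrecheck false in
local notation "G" => ↥(Cfsg.Lie.chevG2.group F)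

/-- The non-square unit. -/
noncomputable def nu : Fˣ := Units.mk0 P.δ fun h => P.hδ (by rw [h]; exact IsSquare.zero)

theorem nu_not_square : ¬ IsSquare ((nu P : Fˣ) : F) := P.hδ

theorem c_entries : P.c.1 1 1 = -P.c.1 0 0 ∧
    P.c.1 0 0 * P.c.1 0 0 + P.c.1 0 1 * P.c.1 1 0 = -P.δ := by
  have e00 := congrArg (fun M : M2 => M 0 0) P.hsq
  have e11 := congrArg (fun M : M2 => M 1 1) P.hsq
  have e01 := congrArg (fun M : M2 => M 0 1) P.hsq
  simp [Matrix.mul_apply, Fin.sum_univ_two] at e00 e11 e01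
  have hd := P.hdet
  rw [Matrix.det_fin_two] at hd
  refine ⟨?_, e00⟩
  have k : P.c.1 0 0 * (P.c.1 0 0 + P.c.1 1 1) = 0 := by linear_combination e00 + hd
  rcases mul_eq_zero.1 k with h | h
  · have : P.c.1 1 1 * P.c.1 1 1 = 0 := by linear_combination e11 - e00 + h * P.c.1 0 0
    rw [h, mul_self_eq_zero.1 this, neg_zero]
  · linear_combination h

theorem delta_ne : P.δ ≠ 0 := fun h => P.hδ (by rw [h]; exact IsSquare.zero)

/-- The first correcting element. -/
noncomputable def gA : SL2 := ⟨!![P.c.1 0 0 / P.δ, P.c.1 0 1; P.c.1 1 0 / P.δ, P.c.1 1 1], by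
  have hd := P.hdet
  rw [Matrix.det_fin_two] at hd
  have h0 := delta_ne P
  rw [Matrix.det_fin_two_of]
  field_simp
  linear_combination hd⟩

/-- The second correcting element. -/
noncomputable def gB : SL2 := ⟨!![P.c.1 0 0, P.c.1 0 1 / P.δ; P.c.1 1 0, P.c.1 1 1 / P.δ], by
  have hd := P.hdet
  rw [Matrix.det_fin_two] at hd
  have h0 := delta_ne P
  rw [Matrix.det_fin_two_of]
  field_simp
  linear_combination hd⟩

theorem gA_conj (v : SL2) : gA P * dconj (nu P) v = cjA F P.c v * gA P := by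
  have h0 := delta_ne P
  have key : (gA P).1 = P.c.1 * !![P.δ⁻¹, 0; 0, 1] := by
    ext i j; fin_cases i <;> fin_cases j <;>
      simp [gA, Matrix.mul_apply, Fin.sum_univ_two, div_eq_mul_inv]
  refine Subtype.ext ?_
  rw [Matrix.SpecialLinearGroup.coe_mul, Matrix.SpecialLinearGroup.coe_mul, cjA_coe, key,
    show P.c.1 * v.1 * (P.c⁻¹).1 * (P.c.1 * !![P.δ⁻¹, 0; 0, 1]) =
      P.c.1 * (v.1 * !![P.δ⁻¹, 0; 0, 1]) by simp [mul_assoc], mul_assoc]
  congr 1
  ext i j; fin_cases i <;> fin_cases j <;>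
    simp [Matrix.mul_apply, Fin.sum_univ_two, nu] <;> field_simp

theorem gB_conj (v : SL2) : gB P * dconj (nu P)⁻¹ v = cjA F P.c v * gB P := by
  have h0 := delta_ne P
  have key : (gB P).1 = P.c.1 * !![1, 0; 0, P.δ⁻¹] := by
    ext i j; fin_cases i <;> fin_cases j <;>
      simp [gB, Matrix.mul_apply, Fin.sum_univ_two, div_eq_mul_inv]
  refine Subtype.ext ?_
  rw [Matrix.SpecialLinearGroup.coe_mul, Matrix.SpecialLinearGroup.coe_mul, cjA_coe, key,
    show P.c.1 * v.1 * (P.c⁻¹).1 * (P.c.1 * !![1, 0; 0, P.δ⁻¹]) =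
      P.c.1 * (v.1 * !![1, 0; 0, P.δ⁻¹]) by simp [mul_assoc], mul_assoc]
  congr 1
  ext i j; fin_cases i <;> fin_cases j <;>
    simp [Matrix.mul_apply, Fin.sum_univ_two, nu] <;> field_simp

theorem gA_sq : gA P * dconj (nu P) (gA P) * hd (nu P) = m1 := by
  have h0 := delta_ne P
  obtain ⟨h1, h2⟩ := c_entries P
  refine Subtype.ext ?_
  rw [CfsgLib.FgsC.G2Invol.m1_val, Matrix.SpecialLinearGroup.coe_mul,
    Matrix.SpecialLinearGroup.coe_mul, CfsgLib.FgsC.G2Invol.dconj_val,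
    CfsgLib.FgsC.G2Invol.hd_val]
  ext i j; fin_cases i <;> fin_cases j <;>
    simp [gA, nu, h1, Matrix.mul_apply, Fin.sum_univ_two] <;>
    field_simp <;> first | linear_combination h2 | simp

theorem gB_sq : gB P * dconj (nu P)⁻¹ (gB P) * hd (nu P)⁻¹ = m1 := by
  have h0 := delta_ne P
  obtain ⟨h1, h2⟩ := c_entries P
  refine Subtype.ext ?_
  rw [CfsgLib.FgsC.G2Invol.m1_val, Matrix.SpecialLinearGroup.coe_mul,
    Matrix.SpecialLinearGroup.coe_mul, CfsgLib.FgsC.G2Invol.dconj_val,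
    CfsgLib.FgsC.G2Invol.hd_val]
  ext i j; fin_cases i <;> fin_cases j <;>
    simp [gB, nu, h1, Matrix.mul_apply, Fin.sum_univ_two] <;>
    field_simp <;> first | linear_combination h2 | simp

/-- The pairs in the Chevalley group. -/
noncomputable def pairHom : QQ × QQ →* G :=
  ((Phi (F := F)).codRestrict (Cfsg.Lie.chevG2.group F) fun v =>
    CfsgLib.FgsC.G2Invol.C0_le_group (CfsgLib.FgsC.G2Invol.Phi_mem_C0 v.1 v.2)).comp
    (MonoidHom.prodMap (QQ).subtype (QQ).subtype)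

theorem pairHom_coe (a b : QQ) : (pairHom P (a, b)).1 = Phi ((a : SL2), (b : SL2)) := rfl

/-- The outer involution in the Chevalley group. -/
noncomputable def outT : G :=
  ⟨Phi (gA P, gB P) * TT 1 (nu P), CfsgLib.FgsC.G2Invol.C0_le_group
    (mul_mem (CfsgLib.FgsC.G2Invol.Phi_mem_C0 _ _) (CfsgLib.FgsC.G2Invol.TT_mem_C0 _ _))⟩

theorem outT_sq : outT P * outT P = 1 := by
  refine Subtype.ext ?_
  show Phi (gA P, gB P) * TT 1 (nu P) * (Phi (gA P, gB P) * TT 1 (nu P)) = 1
  rw [mul_assoc, ← mul_assoc (TT 1 (nu P)), TT_nu_conj, mul_assoc, TT_sq, Phi_mul, Phi_mul,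
    ← mul_assoc, ← mul_assoc, gA_sq, gB_sq, CfsgLib.FgsC.G2Invol.Phi_apply,
    CfsgLib.FgsC.G2Invol.phi8_m1, CfsgLib.FgsC.G2Invol.phi10_m1, CfsgLib.FgsC.G2Invol.z_sq]

theorem outT_conj (a b : QQ) :
    outT P * pairHom P (a, b) = pairHom P (sig P a, sig P b) * outT P := by
  refine Subtype.ext ?_
  show Phi (gA P, gB P) * TT 1 (nu P) * Phi ((a : SL2), (b : SL2)) =
    Phi (cjA F P.c a.1, cjA F P.c b.1) * (Phi (gA P, gB P) * TT 1 (nu P))
  rw [mul_assoc, TT_nu_conj, ← mul_assoc, ← mul_assoc, Phi_mul, Phi_mul, gA_conj, gB_conj]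

theorem pair_ne_outT (p : QQ × QQ) : pairHom P p ≠ outT P := by
  intro h
  have h' : Phi ((p.1 : SL2), (p.2 : SL2)) = Phi (gA P, gB P) * TT 1 (nu P) :=
    congrArg Subtype.val h
  exact TT_nu_notMem (nu_not_square P)
    ⟨(gA P, gB P)⁻¹ * ((p.1 : SL2), (p.2 : SL2)), by rw [map_mul, map_inv, h', inv_mul_cancel_left]⟩

/-- The two-subgroup. -/
noncomputable def sylG : Subgroup G where
  carrier := {g | ∃ p, g = pairHom P p ∨ g = pairHom P p * outT P}
  one_mem' := ⟨1, Or.inl (map_one _).symm⟩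
  mul_mem' := by
    rintro _ _ ⟨p, rfl | rfl⟩ ⟨⟨a, b⟩, rfl | rfl⟩
    · exact ⟨p * (a, b), Or.inl (map_mul _ _ _).symm⟩
    · exact ⟨p * (a, b), Or.inr (by rw [map_mul, mul_assoc])⟩
    · exact ⟨p * (sig P a, sig P b), Or.inr (by rw [mul_assoc, outT_conj, map_mul, mul_assoc])⟩
    · exact ⟨p * (sig P a, sig P b), Or.inl (by
        rw [map_mul, mul_assoc, ← mul_assoc (outT P), outT_conj, mul_assoc, outT_sq, mul_one])⟩
  inv_mem' := by
    rintro _ ⟨⟨a, b⟩, rfl | rfl⟩
    · exact ⟨(a, b)⁻¹, Or.inl (map_inv _ _).symm⟩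
    · refine ⟨(sig P a⁻¹, sig P b⁻¹), Or.inr ?_⟩
      rw [_root_.mul_inv_rev, ← map_inv, inv_eq_of_mul_eq_one_right (outT_sq P), Prod.inv_mk,
        outT_conj]

/-- The central product data inside the Chevalley group. -/
noncomputable def cData (D : QData QQ) (hσ : D.σ = sig P) (hε : (D.ε : SL2) = -1) :
    CData (sylG P) QQ where
  D := D
  ψ := (pairHom P).codRestrict (sylG P) fun p => ⟨p, Or.inl rfl⟩
  t := ⟨outT P, 1, Or.inr (by rw [map_one, one_mul])⟩
  hε := by
    refine Subtype.ext (Subtype.ext ?_)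
    show Phi ((D.ε : SL2), (D.ε : SL2)) = 1
    rw [hε, ← m1_eq_neg, CfsgLib.FgsC.G2Invol.Phi_apply, CfsgLib.FgsC.G2Invol.phi8_m1,
      CfsgLib.FgsC.G2Invol.phi10_m1, CfsgLib.FgsC.G2Invol.z_sq]
  hker p hp := by
    have h : Phi ((p.1 : SL2), (p.2 : SL2)) = 1 :=
      congrArg (fun v : sylG P => v.1.1) hp
    rcases Phi_eq_one (NeZero.ne (2 : F)) h with ⟨h1, h2⟩ | ⟨h1, h2⟩
    · exact Or.inl (Prod.ext (Subtype.ext h1) (Subtype.ext h2))
    · refine Or.inr (Prod.ext (Subtype.ext ?_) (Subtype.ext ?_))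
      · rw [h1, hε, m1_eq_neg]
      · rw [h2, hε, m1_eq_neg]
  ht := Subtype.ext (outT_sq P)
  hconj a b := Subtype.ext (by rw [hσ]; exact outT_conj P a b)
  hsurj s := by
    obtain ⟨g, p, hp | hp⟩ := s
    · exact ⟨p, Or.inl (Subtype.ext hp)⟩
    · exact ⟨p, Or.inr (Subtype.ext hp)⟩
  hnot p h := pair_ne_outT P p (congrArg Subtype.val h)

/-- The invariants of a Sylow two-subgroup of the Chevalley group. -/
theorem nonempty_facts (hF : Odd (Fintype.card F)) (T : Sylow 2 G) :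
    Nonempty (Facts ↥(T : Subgroup G)) := by
  have h2 : (2 : F) ≠ 0 := NeZero.ne (2 : F)
  haveI : Fact (Nat.Prime 2) := ⟨Nat.prime_two⟩
  obtain ⟨P⟩ := CfsgLib.Involutions.G2Two.nonempty_pData (F := F) (Nat.odd_iff.1 hF)
  obtain ⟨D, hσ, hε⟩ := exists_qData P
  have hcard := (cData P D hσ hε).card_S
  obtain ⟨n, hn⟩ := IsPGroup.iff_card.1 P.d.Q.2
  have hp : IsPGroup 2 (sylG P) := IsPGroup.of_card (n := n + n) (by rw [hcard, hn, pow_add])
  have hidx : ¬ 2 ∣ (sylG P).index := by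
    obtain ⟨k, hk, hG⟩ := CfsgLib.FgsC.G2Invol.card_group_odd_index (F := F) h2
    have h1 := (P.d.Q : Subgroup SL2).card_mul_index
    rw [CfsgLib.Classical.card_SL_two] at h1
    have h3 := (sylG P).card_mul_index
    rw [hG, hcard, ← mul_pow, ← h1,
      show ∀ a b : ℕ, k * (a * b) ^ 2 = a * a * (k * (b * b)) from fun a b => by ring] at h3
    rw [Nat.eq_of_mul_eq_mul_left (Nat.mul_pos Nat.card_pos Nat.card_pos) h3]
    intro hd
    have ho := P.d.Q.not_dvd_index
    rcases Nat.prime_two.dvd_mul.1 hd with h | h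
    · exact Nat.not_even_iff_odd.2 hk (even_iff_two_dvd.2 h)
    · rcases Nat.prime_two.dvd_mul.1 h with h' | h' <;> exact ho h'
  exact ⟨((cData P D hσ hε).facts).map
    ((MulEquiv.subgroupCongr (IsPGroup.toSylow_coe hp hidx).symm).trans
      ((hp.toSylow hidx).equiv T))⟩

end CfsgLib.Involutions.G2Fusion
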